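import Cfsg.Agent.BC87.N5040.Lines
import Cfsg.Agent.Lib.Involution.IndexTwo

/-!
# No element of order `3` with centraliser of order `72`
-/

set_option autoImplicit false

namespace Cfsg.Agent.BC87.N5040

open Subgroup
open Cfsg.Agent.BC87.A7 (mem_cent exists_mem_orderOf inner_count exists_sylow_mem card_sylow_index
  cent_zpowers stab_mul_range mem_zpowers_three)

variable {G : Type*} [Group G] [Finite G]

/-- A subgroup twice as big as a subgroup of odd order that it centralises has one involution. -/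
theorem involution_unique_of_central {K P : Subgroup G} (hle : P ≤ K)
    (hc : Nat.card K = 2 * Nat.card P) (hodd : Odd (Nat.card P))
    (hcen : K ≤ centralizer (P : Set G)) {a b : G} (ha : a ∈ K) (hb : b ∈ K)
    (ha2 : a * a = 1) (hb2 : b * b = 1) (ha1 : a ≠ 1) (hb1 : b ≠ 1) : a = b := by
  have hidx : (P.subgroupOf K).index = 2 := by
    have h1 := (P.subgroupOf K).card_mul_index
    rw [Nat.card_congr (subgroupOfEquivOfLe hle).toEquiv, hc, mul_comm 2] at h1
    exact Nat.eq_of_mul_eq_mul_left Nat.card_pos h1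
  have hnot : ∀ u : G, u * u = 1 → u ≠ 1 → u ∉ P := by
    intro u hu hu1 huP
    have h1 := orderOf_dvd_natCard _ huP
    rw [orderOf_eq_prime (p := 2) (by rw [pow_two, hu]) hu1] at h1
    exact (Nat.not_even_iff_odd.mpr hodd) (even_iff_two_dvd.mpr h1)
  have hab : a * b ∈ P := (mul_mem_iff_of_index_two hidx (a := ⟨a, ha⟩) (b := ⟨b, hb⟩)).mpr
    (iff_of_false (hnot a ha2 ha1) (hnot b hb2 hb1))
  by_contra hne
  refine hnot (a * b) ?_ (fun e => hne ?_) hab
  · have h1 : a * b * a = a * (a * b) := mem_centralizer_iff.mp (hcen ha) _ hab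
    rw [← mul_assoc a a b, ha2, one_mul] at h1
    calc a * b * (a * b) = (a * b * a) * b := by group
      _ = 1 := by rw [h1, hb2]
  · rw [← inv_eq_of_mul_eq_one_right ha2]
    exact inv_eq_of_mul_eq_one_right e

theorem perm_four_fuse : ∀ x : Equiv.Perm (Fin 4), x * x = 1 → x ≠ 1 →
    ∀ y : Equiv.Perm (Fin 4), y * y = 1 → y ≠ 1 → Equiv.Perm.sign x = Equiv.Perm.sign y →
      ∃ g : Equiv.Perm (Fin 4), g * x * g⁻¹ = y := by
  decide +kernel

theorem perm_four_sq : ∀ x : Equiv.Perm (Fin 4), x ^ 8 = 1 → x * x ≠ 1 →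
    ∀ y : Equiv.Perm (Fin 4), y ^ 8 = 1 → y * y ≠ 1 → (x * y) ^ 8 = 1 → x * x = y * y := by
  decide +kernel

theorem perm_four_elem : ∀ x : Equiv.Perm (Fin 4), x * x = 1 → x ≠ 1 →
    (Finset.univ.filter fun y : Equiv.Perm (Fin 4) => y * y = 1 ∧ x * y = y * x).card < 8 := by
  decide +kernel

namespace Hyp

variable [IsSimpleGroup G] (h : Hyp G) [Fact (Nat.Prime 3)]
include h

variable (P : Sylow 3 G) {z : G} (hz : orderOf z = 3) (hzP : z ∈ (P : Subgroup G))
  (hC : Nat.card ↥(centralizer ({z} : Set G)) = 72)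
  (hk : Nat.card ↥(normalizer ((P : Subgroup G) : Set G) ⊓ centralizer ({z} : Set G)) = 18)
include hz hzP hC hk

theorem big_noncentral : ¬ normalizer ((P : Subgroup G) : Set G) ⊓ centralizer ({z} : Set G) ≤
    centralizer ((P : Subgroup G) : Set G) := by
  intro hcen
  have hz1 : z ≠ 1 := fun e => by rw [e, orderOf_one] at hz; omega
  have hN : Nat.card ↥(normalizer ((P : Subgroup G) : Set G)) = 72 := by
    rcases h.stab_card P hzP hz1 with e | ⟨e, -⟩
    · rw [hk] at e; omega
    · exact e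
  haveI : Fact (Nat.Prime 2) := ⟨Nat.prime_two⟩
  set N := normalizer ((P : Subgroup G) : Set G) with hNdef
  set C := centralizer ({z} : Set G) with hCdef
  have hPC : (P : Subgroup G) ≤ C := h.le_cent_three P hzP
  obtain ⟨Kc, hKC, hKc, hKn, hKmem⟩ := h.exists_complement P hPC hcen
  have hK8 : Nat.card Kc = 8 := by rw [hC] at hKc; omega
  obtain ⟨s, hs, hs2⟩ := exists_mem_orderOf (N ⊓ C) 2 (by rw [hk]; norm_num)
  have hss : s * s = 1 := by rw [← pow_two, ← hs2, pow_orderOf_eq_one]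
  have hs1 : s ≠ 1 := fun e => by rw [e, orderOf_one] at hs2; omega
  have hsK : s ∈ Kc := hKmem s 2 hs.2 (by norm_num) (by rw [pow_two, hss])
  have hCP : centralizer ((P : Subgroup G) : Set G) = N ⊓ C := by
    refine le_antisymm (le_inf (centralizer_le_normalizer _) fun a ha => ?_) hcen
    exact mem_cent.mpr (mem_centralizer_iff.mp ha z hzP).symm
  have hNs : N ≤ centralizer ({s} : Set G) := by
    intro n hn
    refine mem_cent.mpr (mul_inv_eq_iff_eq_mul.mp ?_)
    have hmem : n * s * n⁻¹ ∈ N ⊓ C := by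
      rw [← hCP, mem_centralizer_iff]
      intro p hp
      have h1 : n⁻¹ * p * n ∈ (P : Subgroup G) := by
        have := (mem_normalizer_iff.mp (N.inv_mem hn) p).mp hp
        rwa [inv_inv] at this
      have h2 := mem_centralizer_iff.mp (hcen hs) _ h1
      calc p * (n * s * n⁻¹) = n * ((n⁻¹ * p * n) * s) * n⁻¹ := by group
        _ = n * (s * (n⁻¹ * p * n)) * n⁻¹ := by rw [h2]
        _ = n * s * n⁻¹ * p := by group
    refine involution_unique_of_central (K := N ⊓ C) (le_inf le_normalizer hPC)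
      (by rw [hk, h.card_three P]) (by rw [h.card_three P]; decide) hcen hmem hs
      (by rw [conj_mul, hss, mul_one, mul_inv_cancel]) hss
      (fun e => hs1 (conj_eq_one_iff.mp e)) hs1
  obtain ⟨n, hn3, hkn⟩ := inner_count P (centralizer ({s} : Set G)) (le_normalizer.trans hNs)
  rw [inf_eq_left.mpr hNs, hN] at hkn
  have h560 := h.cent_le hs1
  have hd : Nat.card ↥(centralizer ({s} : Set G)) ∣ 5040 := h.card ▸ card_subgroup_dvd_card _
  have hcases : n = 1 ∨ n = 7 := by
    have : n = 1 ∨ n = 4 ∨ n = 7 := by omega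
    rcases this with rfl | rfl | rfl
    · left; rfl
    · rw [← hkn] at hd; norm_num at hd
    · right; rfl
  rcases hcases with rfl | rfl
  · -- the involution would be central in the complement
    have hle : centralizer ({s} : Set G) ≤ N :=
      (eq_of_le_of_card_ge hNs (by rw [hN, ← hkn])).ge
    set Z := Kc ⊓ centralizer ({s} : Set G) with hZ
    have hZ2 : Nat.card Z ∣ 2 := by
      have h1 : Nat.card Z ∣ 8 := hK8 ▸ card_dvd_of_le inf_le_left
      have h2 : Nat.card Z ∣ 18 := hk ▸ card_dvd_of_le (le_inf (inf_le_right.trans hle)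
        (inf_le_left.trans hKC))
      exact Nat.dvd_trans (Nat.dvd_gcd h1 h2) (by norm_num)
    have hZs : zpowers s = Z := by
      refine eq_of_le_of_card_ge (zpowers_le.mpr ⟨hsK, mem_cent.mpr (Commute.refl s)⟩) ?_
      rw [Nat.card_zpowers, hs2]
      exact Nat.le_of_dvd (by norm_num) hZ2
    haveI : Nontrivial ↥Kc := Finite.one_lt_card_iff_nontrivial.mp (by rw [hK8]; norm_num)
    haveI := (IsPGroup.of_card (p := 2) (n := 3) (G := ↥Kc) (by rw [hK8]; norm_num)).center_nontrivial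
    obtain ⟨⟨⟨c, hcK⟩, hc⟩, hc1⟩ := exists_ne (1 : center ↥Kc)
    have hcs : Commute c s := (congrArg Subtype.val (mem_center_iff.mp hc ⟨s, hsK⟩)).symm
    have hcmem : c ∈ zpowers s := hZs ▸ (show c ∈ Z from ⟨hcK, mem_cent.mpr hcs⟩)
    obtain ⟨i, hi⟩ := mem_zpowers_iff.mp hcmem
    rw [← zpow_mod_orderOf, hs2] at hi
    have hcseq : c = s := by
      rcases Int.emod_two_eq_zero_or_one i with e | e <;> push_cast at hi <;> rw [e] at hi
      · rw [zpow_zero] at hi
        exact absurd (Subtype.ext (Subtype.ext hi.symm)) hc1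
      · rw [zpow_one] at hi; exact hi.symm
    subst hcseq
    have hKs : Kc ≤ centralizer ({c} : Set G) := fun a ha =>
      mem_cent.mpr (congrArg Subtype.val (mem_center_iff.mp hc ⟨a, ha⟩))
    have := Nat.le_of_dvd (by norm_num) hZ2
    rw [hZ, inf_eq_left.mpr hKs, hK8] at this
    omega
  · -- a Sylow `7`-normaliser would centralise the involution
    haveI : Fact (Nat.Prime 7) := ⟨by norm_num⟩
    obtain ⟨x, hx, hx7⟩ := exists_mem_orderOf (centralizer ({s} : Set G)) 7
      (by rw [← hkn]; norm_num)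
    have hsx : Commute s x := (mem_cent.mp hx).symm
    obtain ⟨Q, hxQ⟩ := exists_sylow_mem (G := G) hx7
    have hQ : Nat.card ↥(Q : Subgroup G) = 7 := by
      rw [SmallGroups.card_sylow_eq (a := 1) (m := 720) (by rw [h.card]; norm_num) (by norm_num) Q,
        pow_one]
    have he : zpowers x = (Q : Subgroup G) :=
      eq_of_le_of_card_ge (zpowers_le.mpr hxQ) (by rw [hQ, Nat.card_zpowers, hx7])
    set Cx := centralizer ({x} : Set G) with hCx
    have hCxN : Cx ≤ normalizer ((Q : Subgroup G) : Set G) := by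
      rw [hCx, ← cent_zpowers, he]; exact centralizer_le_normalizer _
    have hCx14 : Nat.card Cx = 14 := by
      have h1 : Nat.card Cx ∣ 42 := h.card_norm_seven Q ▸ card_dvd_of_le hCxN
      have h2 : 2 ∣ Nat.card Cx := hs2 ▸ orderOf_dvd_natCard _ (mem_cent.mpr hsx)
      have h3 : 7 ∣ Nat.card Cx := hx7 ▸ orderOf_dvd_natCard _ (mem_cent.mpr (Commute.refl x))
      have h4 : ¬ 3 ∣ Nat.card Cx := fun h4 => by
        obtain ⟨w, hw, hw3⟩ := exists_mem_orderOf Cx 3 h4
        exact h.seven_cent hw3 (hx7 ▸ orderOf_dvd_natCard _ (mem_cent.mpr (mem_cent.mp hw).symm))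
      obtain ⟨i, hi⟩ := Nat.Coprime.mul_dvd_of_dvd_of_dvd (m := 2) (n := 7) (by norm_num) h2 h3
      have := Nat.le_of_dvd (by norm_num) h1
      have : i ≤ 3 := by omega
      interval_cases i <;> rw [hi] at h1 h4 ⊢ <;> norm_num at *
    have hQs : normalizer ((Q : Subgroup G) : Set G) ≤ centralizer ({s} : Set G) := by
      intro m hm
      refine mem_cent.mpr (mul_inv_eq_iff_eq_mul.mp ?_)
      have hmem : m * s * m⁻¹ ∈ Cx := by
        rw [hCx, ← cent_zpowers, he, mem_centralizer_iff]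
        intro p hp
        have h1 : m⁻¹ * p * m ∈ (Q : Subgroup G) := by
          have := (mem_normalizer_iff.mp (inv_mem hm) p).mp hp
          rwa [inv_inv] at this
        rw [← he, mem_zpowers_iff] at h1
        obtain ⟨j, hj⟩ := h1
        have h2 : Commute (m⁻¹ * p * m) s := hj ▸ (hsx.symm.zpow_left j)
        calc p * (m * s * m⁻¹) = m * ((m⁻¹ * p * m) * s) * m⁻¹ := by group
          _ = m * (s * (m⁻¹ * p * m)) * m⁻¹ := by rw [h2.eq]
          _ = m * s * m⁻¹ * p := by group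
      refine involution_unique_of_central (K := Cx) (P := (Q : Subgroup G)) ?_
        (by rw [hCx14, hQ]) (by rw [hQ]; decide) (by rw [← he, cent_zpowers])
        hmem (mem_cent.mpr hsx)
        (by rw [conj_mul, hss, mul_one, mul_inv_cancel]) hss
        (fun e => hs1 (conj_eq_one_iff.mp e)) hs1
      rw [← he]
      exact zpowers_le.mpr (mem_cent.mpr (Commute.refl x))
    obtain ⟨n', hn', hkn'⟩ := inner_count Q _ (le_normalizer.trans hQs)
    rw [inf_eq_left.mpr hQs, h.card_norm_seven Q, ← hkn] at hkn'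
    omega

theorem big_false : False := by
  classical
  haveI : Fact (Nat.Prime 2) := ⟨Nat.prime_two⟩
  have hz1 : z ≠ 1 := fun e => by rw [e, orderOf_one] at hz; omega
  have hN : Nat.card ↥(normalizer ((P : Subgroup G) : Set G)) = 72 := by
    rcases h.stab_card P hzP hz1 with e | ⟨e, -⟩
    · rw [hk] at e; omega
    · exact e
  obtain ⟨s, hs, hsP⟩ := SetLike.not_le_iff_exists.mp (h.big_noncentral P hz hzP hC hk)
  obtain ⟨g, hgN, hg⟩ := h.real_eighteen P hz hzP hN hk hs hsP
  have hM144 : Nat.card ↥(normalizer ((zpowers z : Subgroup G) : Set G)) = 144 := by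
    rw [h.card_norm_zpowers hz hg, hC]
  set N := normalizer ((P : Subgroup G) : Set G) with hNdef
  set C := centralizer ({z} : Set G) with hCdef
  set M := normalizer ((zpowers z : Subgroup G) : Set G) with hMdef
  have hCM : C ≤ M := by rw [hCdef, hMdef, ← cent_zpowers]; exact centralizer_le_normalizer _
  have hPC : (P : Subgroup G) ≤ C := h.le_cent_three P hzP
  have hcm : ∀ a ∈ (P : Subgroup G), ∀ b ∈ (P : Subgroup G), Commute a b := fun a ha b hb =>
    congrArg Subtype.val (isMulCommutative_iff.mp (h.comm_three P) ⟨a, ha⟩ ⟨b, hb⟩)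
  have hMC : ∀ m ∈ M, ∀ c ∈ C, m * c * m⁻¹ ∈ C := by
    intro m hm c hc
    have h1 : Commute (m * c * m⁻¹) (m * z * m⁻¹) := (mem_cent.mp hc).map (MulAut.conj m)
    rcases zpowers_conj_mem hz hm with e | e <;> rw [e] at h1
    · exact mem_cent.mpr h1
    · exact mem_cent.mpr (Commute.inv_right_iff.mp h1)
  have hidxC : (C.subgroupOf M).index = 2 := by
    have h1 := (C.subgroupOf M).card_mul_index
    rw [Nat.card_congr (subgroupOfEquivOfLe hCM).toEquiv, hC, hM144] at h1
    omega
  have hPK : (P : Subgroup G) ≤ N ⊓ C := le_inf le_normalizer hPC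
  have hidxP : ((P : Subgroup G).subgroupOf (N ⊓ C)).index = 2 := by
    have h1 := ((P : Subgroup G).subgroupOf (N ⊓ C)).card_mul_index
    rw [Nat.card_congr (subgroupOfEquivOfLe hPK).toEquiv, hk, h.card_three P] at h1
    omega
  -- the action on the four cosets
  set U : Subgroup ↥M := N.subgroupOf M with hU
  have hU4 : U.index = 4 := by
    obtain ⟨n, hn3, hkn⟩ := inner_count P M (hPC.trans hCM)
    rw [← hNdef, hM144] at hkn
    have h18 : 18 ∣ Nat.card ↥(N ⊓ M) := hk ▸ card_dvd_of_le (inf_le_inf_left N hCM)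
    have h72 : Nat.card ↥(N ⊓ M) ∣ 72 := hN ▸ card_dvd_of_le inf_le_left
    obtain ⟨i, hi⟩ := h18
    have hi4 : i ∣ 4 := by
      rw [hi] at h72
      exact Nat.dvd_of_mul_dvd_mul_left (by norm_num) (show 18 * i ∣ 18 * 4 from h72)
    have := Nat.le_of_dvd (by norm_num) hi4
    have hi2 : i = 2 := by
      rw [hi, mul_assoc] at hkn
      have hin : i * n = 8 := by omega
      interval_cases i <;> omega
    have h1 := U.card_mul_index
    rw [hU, ← inf_subgroupOf_right, Nat.card_congr (subgroupOfEquivOfLe inf_le_right).toEquiv, hi,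
      hi2, hM144, inf_subgroupOf_right] at h1
    rw [hU]; omega
  haveI := Fintype.ofFinite (↥M ⧸ U)
  let e4 : (↥M ⧸ U) ≃ Fin 4 := Fintype.equivFinOfCardEq
    (by rw [← Nat.card_eq_fintype_card, ← index_eq_card, hU4])
  let φ : ↥M →* Equiv.Perm (Fin 4) :=
    e4.permCongrHom.toMonoidHom.comp (MulAction.toPermHom ↥M (↥M ⧸ U))
  have hker : φ.ker = U.normalCore := by
    rw [normalCore_eq_ker]
    ext a
    simp only [φ, MonoidHom.mem_ker, MonoidHom.comp_apply]
    exact map_eq_one_iff _ e4.permCongrHom.injective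
  set H : Subgroup G := (φ.ker).map M.subtype ⊓ C with hH
  have hHmem : ∀ {u : G}, u ∈ H ↔ ∃ hu : u ∈ M, φ ⟨u, hu⟩ = 1 ∧ u ∈ C := by
    intro u
    constructor
    · rintro ⟨⟨a, ha, rfl⟩, huC⟩
      exact ⟨a.2, ha, huC⟩
    · rintro ⟨hu, h1, huC⟩
      exact ⟨⟨⟨u, hu⟩, h1, rfl⟩, huC⟩
  have hHK : H ≤ N ⊓ C := by
    intro u hu
    obtain ⟨huM, h1, huC⟩ := hHmem.mp hu
    have h2 : (⟨u, huM⟩ : ↥M) ∈ U.normalCore := hker ▸ h1
    exact ⟨U.normalCore_le h2, huC⟩
  have hHn : ∀ c ∈ M, ∀ u ∈ H, c * u * c⁻¹ ∈ H := by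
    intro c hc u hu
    obtain ⟨huM, h1, huC⟩ := hHmem.mp hu
    refine hHmem.mpr ⟨mul_mem (mul_mem hc huM) (inv_mem hc), ?_, hMC c hc u huC⟩
    exact φ.normal_ker.conj_mem _ (MonoidHom.mem_ker.mpr h1) ⟨c, hc⟩
  have hzH : z ∈ H := by
    have hzC : z ∈ C := mem_cent.mpr (Commute.refl z)
    refine hHmem.mpr ⟨hCM hzC, ?_, hzC⟩
    rw [← MonoidHom.mem_ker, hker]
    intro m
    show (m : G) * z * (m : G)⁻¹ ∈ N
    rcases zpowers_conj_mem hz m.2 with e | e <;> rw [e]
    · exact le_normalizer hzP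
    · exact le_normalizer (inv_mem hzP)
  have hPH : ¬ (P : Subgroup G) ≤ H := by
    intro hle
    have hCN : C ≤ N := by
      intro c hc
      have hQ : ((c • P : Sylow 3 G) : Subgroup G) ≤ N := by
        rintro _ ⟨a, ha, rfl⟩
        exact (hHK (hHn c (hCM hc) a (hle ha))).1
      have h2 : ((c • P : Sylow 3 G) : Subgroup G) ⊓ N =
          ((c • P : Sylow 3 G) : Subgroup G) ⊓ (P : Subgroup G) :=
        (c • P).2.inf_normalizer_sylow P
      rw [inf_eq_left.mpr hQ] at h2
      have h3 : c • P = P := Sylow.ext (eq_of_le_of_card_ge (inf_eq_left.mp h2.symm)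
        (by rw [h.card_three P, h.card_three (c • P)]))
      exact Sylow.smul_eq_iff_mem_normalizer.mp h3
    rw [inf_eq_right.mpr hCN, hC] at hk
    omega
  have hHP : H ⊓ (P : Subgroup G) = zpowers z := by
    refine (eq_of_le_of_card_ge (zpowers_le.mpr
      (show z ∈ H ⊓ (P : Subgroup G) from ⟨hzH, hzP⟩)) ?_).symm
    rw [Nat.card_zpowers, hz]
    have hd : Nat.card ↥(H ⊓ (P : Subgroup G)) ∣ 3 ^ 2 := by
      have := card_dvd_of_le (inf_le_right : H ⊓ (P : Subgroup G) ≤ _)
      rw [h.card_three P] at this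
      exact this
    obtain ⟨i, hi, he⟩ := (Nat.dvd_prime_pow Nat.prime_three).mp hd
    rw [he]
    have : i ≠ 2 := fun e => hPH <| by
      have h1 : H ⊓ (P : Subgroup G) = (P : Subgroup G) :=
        eq_of_le_of_card_ge inf_le_right (by rw [he, e, h.card_three P]; norm_num)
      exact h1 ▸ inf_le_left
    interval_cases i <;> norm_num at *
  have hHz : ∀ u ∈ H, u ∈ zpowers z := by
    intro u hu
    by_cases huP : u ∈ (P : Subgroup G)
    · have h1 : u ∈ H ⊓ (P : Subgroup G) := ⟨hu, huP⟩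
      rwa [hHP] at h1
    exfalso
    have hcomm : ∀ p ∈ (P : Subgroup G), Commute p (u ^ 3) := by
      have hu2 : u * u ∈ zpowers z := hHP ▸ ⟨mul_mem hu hu,
        mul_self_mem_of_index_two hidxP (⟨u, hHK hu⟩ : ↥(N ⊓ C))⟩
      have hu6 : (u ^ 3) * (u ^ 3) = 1 := by
        rw [← pow_add, show 3 + 3 = 2 * 3 by norm_num, pow_mul, pow_two]
        rcases mem_zpowers_three hz hu2 with e | e | e <;> rw [e]
        · exact one_pow 3
        · rw [← hz, pow_orderOf_eq_one]
        · rw [inv_pow, ← hz, pow_orderOf_eq_one, inv_one]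
      intro p hp
      set w := u ^ 3 with hw
      have hwH : w ∈ H := pow_mem hu 3
      have hwz : Commute w z := mem_cent.mp (hHK hwH).2
      have hdP : p * w * p⁻¹ * w ∈ zpowers z := by
        rw [← hHP]
        refine ⟨mul_mem (hHn p (hCM (hPC hp)) w hwH) hwH, ?_⟩
        rw [mul_assoc, mul_assoc]
        refine mul_mem hp ?_
        have h1 := (mem_normalizer_iff.mp (hHK hwH).1 p⁻¹).mp (inv_mem hp)
        rw [inv_eq_of_mul_eq_one_right hu6, mul_assoc] at h1
        exact h1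
      have hpw : (p * w * p⁻¹) * (p * w * p⁻¹) = 1 := by
        rw [conj_mul, hu6, mul_one, mul_inv_cancel]
      obtain ⟨i, hi⟩ := mem_zpowers_iff.mp hdP
      have h1 : p * w * p⁻¹ = z ^ i * w := by
        rw [hi, mul_assoc _ w w, hu6, mul_one]
      rw [h1] at hpw
      have h2 : (z ^ i) * (z ^ i) = 1 := by
        have h3 : Commute w (z ^ i) := hwz.zpow_right i
        rw [mul_assoc, ← mul_assoc w, h3.eq, mul_assoc, hu6, mul_one] at hpw
        exact hpw
      have h4 : z ^ i = 1 := by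
        have h5 : (z ^ i) ^ 3 = 1 := by
          rw [← zpow_natCast, ← zpow_mul, mul_comm, zpow_mul, zpow_natCast, ← hz,
            pow_orderOf_eq_one, one_zpow]
        rw [pow_succ, pow_two, h2, one_mul] at h5
        exact h5
      rw [h4, one_mul] at h1
      exact mul_inv_eq_iff_eq_mul.mp h1
    -- then the cube of `u` lies in `P`
    apply hsP
    have huK := hHK hu
    have hu3 : u ^ 3 ∉ (P : Subgroup G) := fun hmem => huP <| by
      have h1 : u * u ∈ (P : Subgroup G) :=
        mul_self_mem_of_index_two hidxP (⟨u, huK⟩ : ↥(N ⊓ C))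
      have h2 : u = (u * u)⁻¹ * u ^ 3 := by simp only [pow_succ, pow_zero]; group
      rw [h2]
      exact mul_mem (inv_mem h1) hmem
    have hs' : s * u ^ 3 ∈ (P : Subgroup G) := by
      refine (mul_mem_iff_of_index_two hidxP (a := ⟨s, hs⟩) (b := ⟨u ^ 3, pow_mem huK 3⟩)).mpr
        (iff_of_false ?_ hu3)
      intro hsmem
      exact hsP (mem_centralizer_iff.mpr fun p hp => (hcm p hp s hsmem).eq)
    rw [mem_centralizer_iff]
    intro p hp
    have h1 : Commute p (s * u ^ 3) := hcm p hp _ hs'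
    have h2 := h1.mul_right (hcomm p hp).inv_right
    rwa [mul_inv_cancel_right] at h2
  -- the kernel on `C` has order three, so the image is everything
  have hkerC : ∀ (a : ↥M), φ a = 1 → (a : G) ∈ C → (a : G) ∈ zpowers z := fun a h1 h2 =>
    hHz _ (hHmem.mpr ⟨a.2, h1, h2⟩)
  have hsurj : Function.Surjective (φ.comp (inclusion hCM)) := by
    set ψ := φ.comp (inclusion hCM) with hψ
    have h1 : Nat.card ψ.range * Nat.card ψ.ker = 72 := by
      rw [← Nat.card_congr (QuotientGroup.quotientKerEquivRange ψ).toEquiv, ← index_eq_card,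
        mul_comm, card_mul_index, hC]
    have h2 : Nat.card ψ.ker ≤ 3 := by
      have hle : ψ.ker.map C.subtype ≤ zpowers z := by
        rintro _ ⟨a, ha, rfl⟩
        exact hkerC (inclusion hCM a) ha a.2
      have := Nat.le_of_dvd Nat.card_pos (card_dvd_of_le hle)
      rwa [card_map_of_injective C.subtype_injective, Nat.card_zpowers, hz] at this
    have h24 : Nat.card (Equiv.Perm (Fin 4)) = 24 := by
      rw [Nat.card_perm, Nat.card_fin]; rfl
    have h3 : Nat.card ψ.range ≤ 24 := h24 ▸ card_le_card_group _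
    rw [← MonoidHom.range_eq_top]
    refine eq_top_of_card_eq _ ?_
    rw [h24]
    interval_cases Nat.card ψ.ker <;> omega
  have hlift : ∀ σ : Equiv.Perm (Fin 4), ∃ (c : G) (hc : c ∈ C), φ ⟨c, hCM hc⟩ = σ := fun σ => by
    obtain ⟨⟨c, hc⟩, h1⟩ := hsurj σ
    exact ⟨c, hc, h1⟩
  have hR : Nat.card φ.ker = 6 := by
    have hφ : φ.range = ⊤ := by
      rw [MonoidHom.range_eq_top]
      intro σ
      obtain ⟨c, hc, h1⟩ := hlift σ
      exact ⟨⟨c, hCM hc⟩, h1⟩
    have h1 : Nat.card φ.range * Nat.card φ.ker = 144 := by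
      rw [← Nat.card_congr (QuotientGroup.quotientKerEquivRange φ).toEquiv, ← index_eq_card,
        mul_comm, card_mul_index, hM144]
    rw [hφ, card_top, show Nat.card (Equiv.Perm (Fin 4)) = 24 by
      rw [Nat.card_perm, Nat.card_fin]; rfl] at h1
    omega
  -- involutions of `C` are determined by their images
  have hinj : ∀ (a b : ↥M), (a : G) ∈ C → (b : G) ∈ C → a * a = 1 → b * b = 1 → φ a = φ b →
      a = b := by
    intro a b ha hb ha2 hb2 hab
    have h1 : ((a * b : ↥M) : G) ∈ zpowers z :=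
      hkerC _ (by rw [map_mul, hab, ← map_mul, hb2, map_one]) (mul_mem ha hb)
    have haz : Commute (a : G) z := mem_cent.mp ha
    have haG : (a : G) * (a : G) = 1 := by rw [← coe_mul, ha2, coe_one]
    have hbG : (b : G) * (b : G) = 1 := by rw [← coe_mul, hb2, coe_one]
    rcases mem_zpowers_three hz h1 with e | e | e
    · rw [coe_mul] at e
      refine Subtype.ext ?_
      rw [← inv_eq_of_mul_eq_one_right haG]
      exact inv_eq_of_mul_eq_one_right e
    all_goals
      exfalso
      rw [coe_mul] at e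
      have hz3 : z ^ 3 = 1 := hz ▸ pow_orderOf_eq_one z
      have hzz : z * z = 1 ∨ z⁻¹ * z⁻¹ = 1 := by
        first
        | (left
           have hb' : (b : G) = (a : G) * z := by rw [← e, ← mul_assoc, haG, one_mul]
           rw [hb', mul_assoc, ← mul_assoc z, ← haz.eq, mul_assoc, ← mul_assoc (a : G) (a : G),
             haG, one_mul] at hbG
           exact hbG)
        | (right
           have hb' : (b : G) = (a : G) * z⁻¹ := by rw [← e, ← mul_assoc, haG, one_mul]
           rw [hb', mul_assoc, ← mul_assoc z⁻¹, ← haz.inv_right.eq, mul_assoc,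
             ← mul_assoc (a : G) (a : G), haG, one_mul] at hbG
           exact hbG)
      apply hz1
      rcases hzz with h2 | h2
      · rw [pow_succ, pow_two, h2, one_mul] at hz3; exact hz3
      · rw [← mul_inv_rev, inv_eq_one] at h2
        rw [pow_succ, pow_two, h2, one_mul] at hz3; exact hz3
  have hfuse : ∀ (a b : ↥M), (a : G) ∈ C → (b : G) ∈ C → a * a = 1 → b * b = 1 → a ≠ 1 → b ≠ 1 →
      Equiv.Perm.sign (φ a) = Equiv.Perm.sign (φ b) → IsConj (a : G) (b : G) := by
    intro a b ha hb ha2 hb2 ha1 hb1 hsign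
    have hne : ∀ u : ↥M, (u : G) ∈ C → u * u = 1 → u ≠ 1 → φ u ≠ 1 := fun u hu hu2 hu1 e =>
      hu1 (hinj u 1 hu (one_mem C) hu2 (one_mul 1) (by rw [e, map_one]))
    obtain ⟨σ, hσ⟩ := perm_four_fuse (φ a) (by rw [← map_mul, ha2, map_one]) (hne a ha ha2 ha1)
      (φ b) (by rw [← map_mul, hb2, map_one]) (hne b hb hb2 hb1) hsign
    obtain ⟨c, hc, hcσ⟩ := hlift σ
    refine isConj_iff.mpr ⟨c, ?_⟩
    have h1 : (⟨c, hCM hc⟩ : ↥M) * a * (⟨c, hCM hc⟩ : ↥M)⁻¹ = b := by
      refine hinj _ _ (hMC c (hCM hc) _ ha) hb ?_ hb2 ?_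
      · rw [conj_mul, ha2, mul_one, mul_inv_cancel]
      · rw [map_mul, map_mul, map_inv, hcσ, hσ]
    exact congrArg Subtype.val h1
  -- the involution in the kernel and a Sylow `2`-subgroup
  obtain ⟨e, heR, he2⟩ := exists_mem_orderOf φ.ker 2 (by rw [hR]; norm_num)
  have hee : e * e = 1 := by rw [← pow_two, ← he2, pow_orderOf_eq_one]
  have heC : (e : G) ∉ C := fun hmem => by
    have h1 := orderOf_dvd_natCard _ (hkerC e heR hmem)
    rw [orderOf_coe, he2, Nat.card_zpowers, hz] at h1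
    norm_num at h1
  obtain ⟨T', heT⟩ := exists_sylow_mem (G := ↥M) he2
  have hT'c : Nat.card ↥(T' : Subgroup ↥M) = 16 := by
    rw [SmallGroups.card_sylow_eq (a := 4) (m := 9) (by rw [hM144]; norm_num) (by norm_num) T']
    norm_num
  have hecen : ∀ t ∈ (T' : Subgroup ↥M), t * e * t⁻¹ = e := by
    intro t ht
    have hle : zpowers e ≤ φ.ker ⊓ (T' : Subgroup ↥M) := zpowers_le.mpr ⟨heR, heT⟩
    have heq : zpowers e = φ.ker ⊓ (T' : Subgroup ↥M) := by
      refine eq_of_le_of_card_ge hle ?_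
      rw [Nat.card_zpowers, he2]
      have h1 : Nat.card ↥(φ.ker ⊓ (T' : Subgroup ↥M)) ∣ Nat.gcd 6 16 :=
        Nat.dvd_gcd (hR ▸ card_dvd_of_le inf_le_left) (hT'c ▸ card_dvd_of_le inf_le_right)
      exact Nat.le_of_dvd (by norm_num) h1
    have hmem : t * e * t⁻¹ ∈ zpowers e :=
      heq ▸ ⟨φ.normal_ker.conj_mem e heR t,
        mul_mem (mul_mem ht heT) ((T' : Subgroup ↥M).inv_mem ht)⟩
    obtain ⟨i, hi⟩ := mem_zpowers_iff.mp hmem
    rw [← zpow_mod_orderOf, he2] at hi
    rcases Int.emod_two_eq_zero_or_one i with e' | e' <;> push_cast at hi <;> rw [e'] at hi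
    · rw [zpow_zero, eq_comm, conj_eq_one_iff] at hi
      rw [hi, orderOf_one] at he2; omega
    · rw [zpow_one] at hi; exact hi.symm
  set Q' : Subgroup ↥M := C.subgroupOf M with hQ'
  have hTQ : Nat.card ↥((T' : Subgroup ↥M) ⊓ Q') = 8 := by
    have h1 := (Q'.subgroupOf (T' : Subgroup ↥M)).card_mul_index
    rw [← inf_subgroupOf_left, Nat.card_congr (subgroupOfEquivOfLe inf_le_left).toEquiv, hT'c,
      inf_subgroupOf_left] at h1
    have h2 : (Q'.subgroupOf (T' : Subgroup ↥M)).index = 2 := by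
      haveI : Q'.Normal := normal_of_index_eq_two hidxC
      have hle : Q'.relIndex (T' : Subgroup ↥M) ∣ Q'.index := relIndex_dvd_index_of_normal _ _
      rw [hidxC] at hle
      rcases (Nat.dvd_prime Nat.prime_two).mp hle with e' | e'
      · exact absurd (relIndex_eq_one.mp e' heT) heC
      · exact e'
    rw [h2] at h1
    omega
  have hpow8 : ∀ q ∈ (T' : Subgroup ↥M) ⊓ Q', q ^ 8 = 1 := fun q hq => by
    have h1 := pow_card_eq_one' (x := (⟨q, hq⟩ : ↥((T' : Subgroup ↥M) ⊓ Q')))
    rw [hTQ] at h1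
    exact congrArg Subtype.val h1
  have hφinj : ∀ a ∈ (T' : Subgroup ↥M) ⊓ Q', φ a = 1 → a = 1 := by
    intro a ha h1
    have h2 := hkerC a h1 ha.2
    rw [← orderOf_eq_one_iff, ← orderOf_coe]
    have h3 : orderOf (a : G) ∣ 3 := by
      have := orderOf_dvd_natCard _ h2
      rwa [Nat.card_zpowers, hz] at this
    have h4 : orderOf (a : G) ∣ 8 :=
      orderOf_dvd_of_pow_eq_one (by rw [← SubmonoidClass.coe_pow, hpow8 a ha, coe_one])
    exact Nat.dvd_one.mp (Nat.dvd_gcd h3 h4)
  obtain ⟨x, hxQ, hx⟩ : ∃ x ∈ (T' : Subgroup ↥M) ⊓ Q', x * x ≠ 1 := by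
    by_contra hc
    push_neg at hc
    set F : Subgroup ↥M := (T' : Subgroup ↥M) ⊓ Q'
    have hFc : ∀ a ∈ F, ∀ b ∈ F, a * b = b * a := by
      intro a ha b hb
      have h1 := hc _ (mul_mem ha hb)
      rw [← inv_eq_of_mul_eq_one_right h1, mul_inv_rev,
        inv_eq_of_mul_eq_one_right (hc a ha), inv_eq_of_mul_eq_one_right (hc b hb)]
    obtain ⟨a, ha, ha1⟩ : ∃ a ∈ F, a ≠ 1 := by
      by_contra hc'
      push_neg at hc'
      rw [(eq_bot_iff_forall F).mpr hc', card_bot] at hTQ
      omega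
    have hb := perm_four_elem (φ a) (by rw [← map_mul, hc a ha, map_one])
      (fun e' => ha1 (hφinj a ha e'))
    have hle : Nat.card F ≤ (Finset.univ.filter fun y : Equiv.Perm (Fin 4) =>
        y * y = 1 ∧ φ a * y = y * φ a).card := by
      rw [← Nat.card_eq_finsetCard]
      refine Nat.card_le_card_of_injective (fun q => ⟨φ q, Finset.mem_filter.mpr
        ⟨Finset.mem_univ _, by rw [← map_mul, hc q q.2, map_one],
          by rw [← map_mul, ← map_mul, hFc a ha q q.2]⟩⟩) ?_
      intro q r hqr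
      have h1 : φ q = φ r := congrArg Subtype.val hqr
      refine Subtype.ext (mul_inv_eq_one.mp (hφinj _ (mul_mem q.2 (inv_mem r.2)) ?_))
      rw [map_mul, map_inv, h1, mul_inv_cancel]
    omega
  set d := x * x with hd
  have huniq : ∀ q ∈ (T' : Subgroup ↥M) ⊓ Q', q * q = 1 ∨ q * q = d := by
    intro q hq
    by_contra hc
    push_neg at hc
    refine hc.2 (mul_inv_eq_one.mp (hφinj _ (mul_mem (mul_mem hq hq)
      (inv_mem (mul_mem hxQ hxQ))) ?_))
    rw [map_mul, map_inv, mul_inv_eq_one, hd, map_mul, map_mul]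
    refine perm_four_sq (φ q) (by rw [← map_pow, hpow8 q hq, map_one]) ?_
      (φ x) (by rw [← map_pow, hpow8 x hxQ, map_one]) ?_
      (by rw [← map_mul, ← map_pow, hpow8 _ (mul_mem hq hxQ), map_one])
    · rw [← map_mul]; exact fun e' => hc.1 (hφinj _ (mul_mem hq hq) e')
    · rw [← map_mul]; exact fun e' => hx (hφinj _ (mul_mem hxQ hxQ) e')
  have hsqT : ∀ t ∈ (T' : Subgroup ↥M), t * t = 1 ∨ t * t = d := by
    intro t ht
    by_cases htC : t ∈ Q'
    · exact huniq t ⟨ht, htC⟩
    have h1 : t * e ∈ Q' := (mul_mem_iff_of_index_two hidxC).mpr (iff_of_false htC heC)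
    have h2 : (t * e) * (t * e) = t * t := by
      have h3 : t * e = e * t := mul_inv_eq_iff_eq_mul.mp (hecen t ht)
      calc (t * e) * (t * e) = t * (e * t) * e := by group
        _ = t * t * (e * e) := by rw [← h3]; group
        _ = t * t := by rw [hee, mul_one]
    rw [← h2]
    exact huniq _ ⟨mul_mem ht heT, h1⟩
  have hd2 : d * d = 1 := by
    rcases huniq d (mul_mem hxQ hxQ) with e' | e'
    · exact e'
    · rw [mul_eq_left] at e'; exact absurd e' hx
  have hdcen : ∀ t ∈ (T' : Subgroup ↥M), t * d * t⁻¹ = d := by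
    intro t ht
    have h1 : t * d * t⁻¹ = (t * x * t⁻¹) * (t * x * t⁻¹) := by rw [hd]; group
    rcases hsqT (t * x * t⁻¹) (mul_mem (mul_mem ht hxQ.1) (inv_mem ht)) with e' | e' <;>
      rw [← h1] at e'
    · exact absurd (conj_eq_one_iff.mp e') hx
    · exact e'
  -- pass to `G`
  set TG : Subgroup G := (T' : Subgroup ↥M).map M.subtype with hTG
  have hTGc : Nat.card TG = 16 := by
    rw [hTG, card_map_of_injective M.subtype_injective, hT'c]
  obtain ⟨T, hT⟩ := (IsPGroup.of_card (p := 2) (n := 4) (G := ↥TG) (by rw [hTGc]; norm_num)).exists_le_sylow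
  have hTeq : TG = (T : Subgroup G) := eq_of_le_of_card_ge hT (by
    rw [hTGc, SmallGroups.card_sylow_eq (a := 4) (m := 315) (by rw [h.card]; norm_num)
      (by norm_num) T]; norm_num)
  have hmemT : ∀ {u : G}, u ∈ (T : Subgroup G) ↔ ∃ t ∈ (T' : Subgroup ↥M), (t : G) = u := by
    intro u
    rw [← hTeq]
    exact Iff.rfl
  have hed2 : (e * d) * (e * d) = 1 := by
    have h1 : d * e = e * d := mul_inv_eq_iff_eq_mul.mp (hecen d (mul_mem hxQ.1 hxQ.1))
    calc (e * d) * (e * d) = e * (d * e) * d := by group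
      _ = (e * e) * (d * d) := by rw [h1]; group
      _ = 1 := by rw [hee, hd2, one_mul]
  have hcenG : ∀ u : ↥M, (∀ t ∈ (T' : Subgroup ↥M), t * u * t⁻¹ = u) →
      (u : G) ∈ centralizer ((T : Subgroup G) : Set G) := by
    intro u hu
    rw [mem_centralizer_iff]
    intro p hp
    obtain ⟨t, ht, rfl⟩ := hmemT.mp hp
    exact congrArg Subtype.val (mul_inv_eq_iff_eq_mul.mp (hu t ht))
  have hNT : ∀ n ∈ normalizer ((T : Subgroup G) : Set G), n * (d : G) * n⁻¹ = (d : G) := by
    intro n hn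
    obtain ⟨t, ht, htn⟩ := hmemT.mp ((mem_normalizer_iff.mp hn (x : G)).mp
      (hmemT.mpr ⟨x, hxQ.1, rfl⟩))
    have h1 : n * (d : G) * n⁻¹ = ((t * t : ↥M) : G) := by
      rw [hd, coe_mul, coe_mul, htn, conj_mul]
    rcases hsqT t ht with e' | e' <;> rw [e'] at h1
    · rw [coe_one, conj_eq_one_iff] at h1
      exact absurd (Subtype.ext h1) hx
    · exact h1
  have hburn : ∀ a b : ↥M, (∀ t ∈ (T' : Subgroup ↥M), t * a * t⁻¹ = a) →
      (∀ t ∈ (T' : Subgroup ↥M), t * b * t⁻¹ = b) → IsConj (a : G) (b : G) →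
      ∃ n ∈ normalizer ((T : Subgroup G) : Set G), n * (a : G) * n⁻¹ = (b : G) := by
    intro a b ha hb hab
    obtain ⟨g', hg'⟩ := isConj_iff.mp hab
    obtain ⟨n, hn, hneq⟩ := T.conj_eq_normalizer_conj_of_mem_centralizer (a : G) g'⁻¹ (hcenG a ha)
      (by rw [inv_inv, hg']; exact hcenG b hb)
    refine ⟨n⁻¹, inv_mem hn, ?_⟩
    rw [inv_inv, hg'] at hneq
    rw [inv_inv]; exact hneq.symm
  have hedcen : ∀ t ∈ (T' : Subgroup ↥M), t * (e * d) * t⁻¹ = e * d := fun t ht => by
    rw [← conj_mul, hecen t ht, hdcen t ht]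
  have hed : ¬ IsConj (e : G) ((e * d : ↥M) : G) := by
    intro hc
    obtain ⟨n, hn, hne⟩ := hburn e (e * d) hecen hedcen hc
    rw [coe_mul] at hne
    have hne' : n * ((e : G) * (d : G)) * n⁻¹ = (e : G) := by
      rw [← conj_mul, hne, hNT n hn, mul_assoc, ← coe_mul M d d, hd2, coe_one, mul_one]
    obtain ⟨j, hj⟩ : Odd ((T : Subgroup G).relIndex (normalizer ((T : Subgroup G) : Set G))) := by
      refine Nat.not_even_iff_odd.mp fun hev => T.not_dvd_index ?_
      rw [← relIndex_mul_index (le_normalizer (H := (T : Subgroup G)))]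
      exact (even_iff_two_dvd.mp hev).mul_right _
    have hmem : n ^ (2 * j + 1) ∈ (T : Subgroup G) := by
      have h1 := ((T : Subgroup G).subgroupOf (normalizer ((T : Subgroup G) : Set G))).pow_index_mem
        (⟨n, hn⟩ : ↥(normalizer ((T : Subgroup G) : Set G)))
      rw [show ((T : Subgroup G).subgroupOf (normalizer ((T : Subgroup G) : Set G))).index =
        2 * j + 1 from hj, mem_subgroupOf] at h1
      exact h1
    have hswap : ∀ i : ℕ, n ^ (2 * i + 1) * (e : G) * (n ^ (2 * i + 1))⁻¹ = (e : G) * (d : G) := by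
      intro i
      induction i with
      | zero => simpa using hne
      | succ i ih =>
        rw [show 2 * (i + 1) + 1 = 2 + (2 * i + 1) by ring, pow_add]
        calc n ^ 2 * n ^ (2 * i + 1) * (e : G) * (n ^ 2 * n ^ (2 * i + 1))⁻¹
            = n ^ 2 * (n ^ (2 * i + 1) * (e : G) * (n ^ (2 * i + 1))⁻¹) * (n ^ 2)⁻¹ := by group
          _ = n * (n * ((e : G) * (d : G)) * n⁻¹) * n⁻¹ := by rw [ih, pow_two]; group
          _ = (e : G) * (d : G) := by rw [hne', hne]
    have h1 := mem_centralizer_iff.mp (hcenG e hecen) _ hmem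
    have h2 := hswap j
    rw [mul_inv_eq_iff_eq_mul.mpr h1, left_eq_mul] at h2
    exact hx (Subtype.ext h2)
  have hde : ∀ u : ↥M, (∀ t ∈ (T' : Subgroup ↥M), t * u * t⁻¹ = u) → u ≠ d →
      ¬ IsConj (d : G) (u : G) := by
    intro u hu hne hc
    obtain ⟨n, hn, hn'⟩ := hburn d u hdcen hu hc
    rw [hNT n hn] at hn'
    exact hne (Subtype.ext hn'.symm)
  -- transfer
  set QG : Subgroup G := (T : Subgroup G) ⊓ C with hQG
  have hQi : QG.relIndex (T : Subgroup G) = 2 := by
    have h1 := (QG.subgroupOf (T : Subgroup G)).card_mul_index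
    rw [Nat.card_congr (subgroupOfEquivOfLe inf_le_left).toEquiv] at h1
    have h2 : Nat.card QG = 8 := by
      have : QG = ((T' : Subgroup ↥M) ⊓ Q').map M.subtype := by
        ext u
        constructor
        · rintro ⟨hu, huC⟩
          obtain ⟨t, ht, rfl⟩ := hmemT.mp hu
          exact ⟨t, ⟨ht, huC⟩, rfl⟩
        · rintro ⟨t, ⟨ht, htC⟩, rfl⟩
          exact ⟨hmemT.mpr ⟨t, ht, rfl⟩, htC⟩
      rw [this, card_map_of_injective M.subtype_injective, hTQ]
    rw [h2, ← hTeq, hTGc] at h1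
    rw [relIndex, ← hTeq]
    omega
  have htransfer : ∀ u : ↥M, u * u = 1 → u ≠ 1 → u ≠ d →
      (∀ t ∈ (T' : Subgroup ↥M), t * u * t⁻¹ = u) →
      ∃ q : ↥M, (q : G) ∈ C ∧ q * q = 1 ∧ q ≠ 1 ∧ Equiv.Perm.sign (φ q) = -1 ∧
        IsConj (u : G) (q : G) := by
    intro u hu2 hu1 hud hu
    by_cases hex : ∃ c : G, c * (u : G) * c⁻¹ ∈ QG
    · obtain ⟨c, hc⟩ := hex
      obtain ⟨q, hq, hqe⟩ := hmemT.mp hc.1
      have hconj : IsConj (u : G) (q : G) := isConj_iff.mpr ⟨c, hqe.symm⟩
      have hqC : (q : G) ∈ C := hqe ▸ hc.2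
      have hq2 : q * q = 1 := Subtype.ext (by
        rw [coe_mul, hqe, conj_mul, ← coe_mul, hu2, coe_one, mul_one, mul_inv_cancel])
      have hq1 : q ≠ 1 := fun e' => hu1 (Subtype.ext (by
        rw [e', coe_one, eq_comm, conj_eq_one_iff] at hqe; exact hqe))
      refine ⟨q, hqC, hq2, hq1, ?_, hconj⟩
      rcases Int.units_eq_one_or (Equiv.Perm.sign (φ q)) with hs' | hs'
      · exfalso
        refine hde u hu hud ((hfuse d q (show (d : G) ∈ C from (mul_mem hxQ.2 hxQ.2 : d ∈ Q'))
          hqC hd2 hq2 hx hq1 ?_).trans hconj.symm)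
        rw [hs', hd, map_mul, map_mul, Int.units_mul_self]
      · exact hs'
    · exfalso
      push_neg at hex
      obtain ⟨M₀, hn, hi, -⟩ := Cfsg.Agent.Involution.thompson_transfer T QG inf_le_left hQi
        (by rw [← coe_mul, hu2, coe_one] : (u : G) * (u : G) = 1) hex
      rcases hn.eq_bot_or_eq_top with e' | e' <;> rw [e'] at hi
      · rw [index_bot, h.card] at hi; omega
      · rw [index_top] at hi; omega
  have hdC : d ∈ Q' := mul_mem hxQ.2 hxQ.2
  have he1 : e ≠ 1 := fun e' => by rw [e', orderOf_one] at he2; omega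
  have hed' : e ≠ d := fun e' => heC (e' ▸ hdC : e ∈ Q')
  have hedd : e * d ≠ d := fun e' => he1 (mul_eq_right.mp e')
  have hed1 : e * d ≠ 1 := fun e' => hed' (by
    rw [← inv_eq_of_mul_eq_one_right e', inv_eq_of_mul_eq_one_right hee])
  obtain ⟨q, hqC, hq2, hq1, hqs, hqc⟩ := htransfer e hee he1 hed' hecen
  obtain ⟨r, hrC, hr2, hr1, hrs, hrc⟩ := htransfer (e * d) hed2 hed1 hedd hedcen
  exact hed ((hqc.trans (hfuse q r hqC hrC hq2 hr2 hq1 hr1 (hqs.trans hrs.symm))).trans hrc.symm)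

end Hyp

end Cfsg.Agent.BC87.N5040
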