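import Cfsg.Agent.BC87.A7.Local
import Mathlib.GroupTheory.SpecificGroups.Alternating.Simple

/-!
# Sylow counting in a simple group of order `5040`
-/

set_option autoImplicit false

namespace Cfsg.Agent.BC87.N5040

open Subgroup
open Cfsg.Agent.BC87.A7 (mem_cent exists_mem_orderOf inner_count exists_sylow_mem card_sylow_index
  cent_zpowers stab_mul_range mem_zpowers_three centralizes_of_order fixed_eq_one
  inverse_of_index_two card_cent_conj)

variable {G : Type*} [Group G] [Finite G]

/-- The order hypothesis. -/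
structure Hyp (G : Type*) [Group G] : Prop where
  card : Nat.card G = 5040

namespace Hyp

variable [IsSimpleGroup G] (h : Hyp G)
include h

theorem ne : ¬ IsMulCommutative G :=
  SmallGroups.not_comm_of_not_prime (by rw [h.card]; norm_num)

/-- Proper subgroups have index at least `9`. -/
theorem index_gt {H : Subgroup G} (hH : H ≠ ⊤) : 8 < H.index := by
  classical
  have h7 : 7 < H.index := SmallGroups.lt_index_of_not_dvd h.ne
    (by rw [h.card]; norm_num [Nat.factorial]) hH
  by_contra hle
  have h8 : H.index = 8 := by omega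
  have := Fintype.ofFinite (G ⧸ H)
  have hc : Fintype.card (G ⧸ H) = 8 := by rw [← Nat.card_eq_fintype_card, ← index_eq_card, h8]
  let e : (G ⧸ H) ≃ Fin 8 := Fintype.equivFinOfCardEq hc
  let f : G →* Equiv.Perm (Fin 8) :=
    e.permCongrHom.toMonoidHom.comp (MulAction.toPermHom G (G ⧸ H))
  have hf : Function.Injective f := e.permCongrHom.injective.comp (SmallGroups.toPerm_injective hH)
  let f' : G →* alternatingGroup (Fin 8) := f.codRestrict (alternatingGroup (Fin 8)) fun g =>
    Equiv.Perm.mem_alternatingGroup.mpr (SmallGroups.sign_hom_eq_one h.ne f g)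
  have hf' : Function.Injective f' := fun a b hab => hf (congrArg Subtype.val hab)
  have hcard : Nat.card (alternatingGroup (Fin 8)) = 20160 := by
    rw [nat_card_alternatingGroup, Nat.card_fin]; rfl
  have hidx : f'.range.index = 4 := by
    have h1 := f'.range.card_mul_index
    rw [← Nat.card_congr (MonoidHom.ofInjective hf').toEquiv, h.card, hcard] at h1
    omega
  haveI : IsSimpleGroup (alternatingGroup (Fin 8)) :=
    alternatingGroup.isSimpleGroup (by rw [Nat.card_fin]; norm_num)
  have hne8 : ¬ IsMulCommutative (alternatingGroup (Fin 8)) :=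
    SmallGroups.not_comm_of_not_prime (by rw [hcard]; norm_num)
  have := SmallGroups.two_mul_card_dvd_index hne8
    (H := f'.range) (fun ht => by rw [ht, index_top] at hidx; omega)
  rw [hidx, hcard] at this
  norm_num [Nat.factorial] at this

theorem card_le (H : Subgroup G) (hH : H ≠ ⊤) : Nat.card H ≤ 560 := by
  have h1 := h.index_gt hH
  have h2 := H.card_mul_index
  rw [h.card] at h2
  nlinarith

theorem cent_le {z : G} (hz : z ≠ 1) : Nat.card ↥(centralizer ({z} : Set G)) ≤ 560 := by
  refine h.card_le _ fun ht => hz ?_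
  have hc : z ∈ center G := mem_center_iff.mpr fun g =>
    mem_cent.mp (ht ▸ mem_top g : g ∈ centralizer ({z} : Set G))
  rwa [SmallGroups.center_eq_bot_of_not_comm h.ne, mem_bot] at hc

theorem normalizer_le {H : Subgroup G} (hb : H ≠ ⊥) (ht : H ≠ ⊤) :
    Nat.card ↥(normalizer (H : Set G)) ≤ 560 := by
  refine h.card_le _ fun hn => ?_
  haveI : H.Normal := normalizer_eq_top_iff.mp hn
  exact hb (SmallGroups.eq_bot_of_normal inferInstance ht)

/-- A normaliser of order `140` is impossible. -/
theorem thirtySix_false (P : Sylow 7 G) [Fact (Nat.Prime 7)]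
    (hP : Nat.card ↥(P : Subgroup G) = 7)
    (hN : Nat.card ↥(normalizer ((P : Subgroup G) : Set G)) = 140)
    (hC : Nat.card ↥(centralizer ((P : Subgroup G) : Set G)) = 70)
    {y : G} (hy : y ∈ centralizer ((P : Subgroup G) : Set G)) (hy5 : orderOf y = 5)
    (hcard : Nat.card (G ⧸ normalizer ((P : Subgroup G) : Set G)) = 36)
    (hy1 : Nat.card (MulAction.fixedBy (G ⧸ normalizer ((P : Subgroup G) : Set G)) y) = 1) :
    False := by
  classical
  set N := normalizer ((P : Subgroup G) : Set G) with hNdef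
  set o : G ⧸ N := ((1 : G) : G ⧸ N) with ho
  obtain ⟨x, hxP, hx7⟩ := exists_mem_orderOf (P : Subgroup G) 7 (by rw [hP])
  have hxy : Commute x y := mem_centralizer_iff.mp hy x hxP
  have hyN : y ∈ N := centralizer_le_normalizer _ hy
  have hxN : x ∈ N := le_normalizer hxP
  have hx1 : x ≠ 1 := fun e => by rw [e, orderOf_one] at hx7; omega
  have hfixo : ∀ g ∈ N, g • o = o := fun g hg => by
    rw [ho, MulAction.Quotient.smul_mk, QuotientGroup.eq, smul_eq_mul, mul_one, mul_one]
    exact inv_mem hg
  have hxfix : ∀ q : G ⧸ N, x • q = q → q = o := fun q hq => by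
    have h1 : q ∈ MulAction.fixedBy (G ⧸ N) x := hq
    rwa [SmallGroups.fixedBy_eq_base P hP hxP hx1, Set.mem_singleton_iff] at h1
  have hyfix : ∀ q : G ⧸ N, y • q = q → q = o := fun q hq => by
    obtain ⟨⟨r, hr⟩, hu⟩ := Nat.card_eq_one_iff_exists.mp hy1
    have e1 := congrArg Subtype.val (hu ⟨q, hq⟩)
    have e2 := congrArg Subtype.val (hu ⟨o, hfixo y hyN⟩)
    simp only at e1 e2
    rw [e1, e2]
  set a := x * y with ha
  have ha35 : orderOf a = 35 := by
    rw [ha, hxy.orderOf_mul_eq_mul_orderOf_of_coprime (by rw [hx7, hy5]; norm_num), hx7, hy5]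
  have haN : a ∈ N := mul_mem hxN hyN
  set A := zpowers a with hAdef
  have hAc : Nat.card A = 35 := by rw [hAdef, Nat.card_zpowers, ha35]
  have hapow : ∀ n : ℕ, a ^ n = x ^ n * y ^ n := fun n => hxy.mul_pow n
  have hx_pow : x ^ 7 = 1 := hx7 ▸ pow_orderOf_eq_one x
  have hy_pow : y ^ 5 = 1 := hy5 ▸ pow_orderOf_eq_one y
  have hxA : x ∈ A := ⟨15, by
    show a ^ (15 : ℤ) = x
    rw [show (15 : ℤ) = ((15 : ℕ) : ℤ) by norm_num, zpow_natCast, hapow,
      show 15 = 7 * 2 + 1 by norm_num, pow_succ, pow_mul, hx_pow, one_pow, one_mul,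
      show 7 * 2 + 1 = 5 * 3 by norm_num, pow_mul, hy_pow, one_pow, mul_one]⟩
  have hyA : y ∈ A := by
    have h1 : y = x⁻¹ * a := by rw [ha, inv_mul_cancel_left]
    rw [h1]
    exact mul_mem (inv_mem hxA) (mem_zpowers a)
  -- `A` is regular off the base point
  have hreg : ∀ b ∈ A, ∀ q : G ⧸ N, q ≠ o → b • q = q → b = 1 := by
    intro b hb q hq hbq
    obtain ⟨k, rfl⟩ := mem_zpowers_iff.mp hb
    have hfixk : ∀ m : ℤ, (a ^ k) ^ m • q = q := fun m =>
      MulAction.mem_fixedBy.mp (MulAction.mem_fixedBy_zpow (show q ∈ MulAction.fixedBy _ (a ^ k) from hbq) m)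
    by_contra hne
    have hk : ¬ (35 : ℤ) ∣ k := fun hd => hne (by
      rw [← orderOf_dvd_iff_zpow_eq_one, ha35]; exact_mod_cast hd)
    have hz : ∀ j : ℤ, a ^ j • q = q → ¬ (35 : ℤ) ∣ j → False := by
      intro j hj hj35
      have h7 : ¬ (7 : ℤ) ∣ j ∨ ¬ (5 : ℤ) ∣ j := by omega
      rcases h7 with h7 | h5
      · -- a power of `x` fixes `q`
        have e1 : (a ^ j) ^ (15 : ℤ) = x ^ j := by
          obtain ⟨m, hm⟩ := hxA
          rw [← zpow_mul, mul_comm, zpow_mul]
          congr 1
          rw [show (15 : ℤ) = ((15 : ℕ) : ℤ) by norm_num, zpow_natCast, hapow,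
            show 15 = 7 * 2 + 1 by norm_num, pow_succ, pow_mul, hx_pow, one_pow, one_mul,
            show 7 * 2 + 1 = 5 * 3 by norm_num, pow_mul, hy_pow, one_pow, mul_one]
        have e2 : x ^ j • q = q := by
          rw [← e1]
          exact MulAction.mem_fixedBy.mp
            (MulAction.mem_fixedBy_zpow (show q ∈ MulAction.fixedBy _ (a ^ j) from hj) 15)
        have hxj : x ^ j ≠ 1 := fun e => h7 (by
          have := orderOf_dvd_iff_zpow_eq_one.mpr e; rw [hx7] at this; exact_mod_cast this)
        have h1 : q ∈ MulAction.fixedBy (G ⧸ N) (x ^ j) := e2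
        rw [SmallGroups.fixedBy_eq_base P hP (zpow_mem hxP j) hxj, Set.mem_singleton_iff] at h1
        exact hq h1
      · have e1 : (a ^ j) ^ (21 : ℤ) = y ^ j := by
          rw [← zpow_mul, mul_comm, zpow_mul]
          congr 1
          rw [show (21 : ℤ) = ((21 : ℕ) : ℤ) by norm_num, zpow_natCast, hapow,
            show 21 = 7 * 3 by norm_num, pow_mul, hx_pow, one_pow, one_mul,
            show 7 * 3 = 5 * 4 + 1 by norm_num, pow_succ, pow_mul, hy_pow, one_pow, one_mul]
        have e2 : y ^ j • q = q := by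
          rw [← e1]
          exact MulAction.mem_fixedBy.mp
            (MulAction.mem_fixedBy_zpow (show q ∈ MulAction.fixedBy _ (a ^ j) from hj) 21)
        have hyz : y ∈ zpowers (y ^ j) := by
          rw [mem_zpowers_zpow_iff]
          rw [hy5]
          show Nat.gcd j.natAbs 5 = 1
          exact ((Nat.Prime.coprime_iff_not_dvd (by norm_num)).mpr
            fun hd => h5 (Int.natCast_dvd.mpr hd)).symm
        obtain ⟨m, hm⟩ := mem_zpowers_iff.mp hyz
        refine hq (hyfix q ?_)
        rw [← hm]
        exact MulAction.mem_fixedBy.mp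
          (MulAction.mem_fixedBy_zpow (show q ∈ MulAction.fixedBy _ (y ^ j) from e2) m)
    exact hz k hbq hk
  -- an element squaring to one in `N` fixes one point for each element of `A` it centralises
  have hcount : ∀ t ∈ N, t * t = 1 → (∀ b ∈ A, t * b * t⁻¹ ∈ A) →
      Nat.card (MulAction.fixedBy (G ⧸ N) t) =
        Nat.card ↥(A ⊓ centralizer ({t} : Set G)) + 1 := by
    intro t ht htt hnorm
    obtain ⟨q0, hq0, hq0o⟩ : ∃ q0 ∈ MulAction.fixedBy (G ⧸ N) t, q0 ≠ o := by
      by_contra hc
      push_neg at hc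
      have h1 : Nat.card (MulAction.fixedBy (G ⧸ N) t) = 1 := by
        rw [Nat.card_eq_one_iff_exists]
        exact ⟨⟨o, hfixo t ht⟩, fun b => Subtype.ext (hc b.1 b.2)⟩
      have h2 := SmallGroups.card_fixedBy_modEq_card (q := 2) (α := G ⧸ N) (x := t) (i := 1)
        (by rw [pow_one, pow_two, htt])
      rw [h1, hcard] at h2
      exact absurd h2 (by decide)
    set D := A ⊓ centralizer ({t} : Set G)
    let Φ : Option D → MulAction.fixedBy (G ⧸ N) t := fun d => match d with
      | none => ⟨o, hfixo t ht⟩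
      | some d => ⟨(d : G) • q0, by
          rw [MulAction.mem_fixedBy, ← mul_smul, ← (mem_cent.mp d.2.2).eq, mul_smul,
            MulAction.mem_fixedBy.mp hq0]⟩
    have hmove : ∀ b ∈ A, b • q0 ≠ o := fun b hb e => hq0o (by
      have hbN : b ∈ N := zpowers_le.mpr haN hb
      rw [← inv_smul_smul b q0, e, hfixo _ (inv_mem hbN)])
    have hbij : Function.Bijective Φ := by
      constructor
      · rintro (_ | d) (_ | e) he <;> have he' := congrArg Subtype.val he
        · rfl
        · exact absurd he'.symm (hmove _ e.2.1)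
        · exact absurd he' (hmove _ d.2.1)
        · have h1 : ((e : G)⁻¹ * (d : G)) • q0 = q0 := by
            rw [mul_smul, show (d : G) • q0 = (e : G) • q0 from he', inv_smul_smul]
          have h2 := hreg _ (mul_mem (inv_mem e.2.1) d.2.1) q0 hq0o h1
          rw [inv_mul_eq_one] at h2
          exact congrArg some (Subtype.ext h2.symm)
      · rintro ⟨q, hq⟩
        by_cases hqo : q = o
        · exact ⟨none, Subtype.ext hqo.symm⟩
        -- `A` is transitive off the base point
        have hsur : ∃ b ∈ A, b • q0 = q := by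
          let Ψ : Option A → G ⧸ N := fun b => match b with
            | none => o
            | some b => (b : G) • q0
          have hinj : Function.Injective Ψ := by
            rintro (_ | d) (_ | e) he
            · rfl
            · exact absurd he.symm (hmove _ e.2)
            · exact absurd he (hmove _ d.2)
            · have h1 : ((e : G)⁻¹ * (d : G)) • q0 = q0 := by
                rw [mul_smul, show (d : G) • q0 = (e : G) • q0 from he, inv_smul_smul]
              have h2 := hreg _ (mul_mem (inv_mem e.2) d.2) q0 hq0o h1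
              rw [inv_mul_eq_one] at h2
              exact congrArg some (Subtype.ext h2.symm)
          obtain ⟨b, hb⟩ := (hinj.bijective_of_nat_card_le
            (by rw [hcard, Finite.card_option, hAc])).2 q
          rcases b with _ | b
          · exact absurd hb.symm hqo
          · exact ⟨b, b.2, hb⟩
        obtain ⟨b, hb, rfl⟩ := hsur
        have h1 : (t * b * t⁻¹) • q0 = b • q0 := by
          rw [mul_smul, mul_smul, show t⁻¹ • q0 = q0 from inv_smul_eq_iff.mpr
            (MulAction.mem_fixedBy.mp hq0).symm, MulAction.mem_fixedBy.mp hq]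
        have h2 : (b⁻¹ * (t * b * t⁻¹)) • q0 = q0 := by rw [mul_smul, h1, inv_smul_smul]
        have h3 := hreg _ (mul_mem (inv_mem hb) (hnorm b hb)) q0 hq0o h2
        rw [inv_mul_eq_one] at h3
        exact ⟨some ⟨b, hb, mem_cent.mpr (mul_inv_eq_iff_eq_mul.mp h3.symm).symm⟩, rfl⟩
    rw [← Nat.card_congr (Equiv.ofBijective Φ hbij), Finite.card_option]
  -- `A` is normal in `N`
  have hAC : A ≤ centralizer ((P : Subgroup G) : Set G) := by
    rw [hAdef, zpowers_le]
    haveI : IsCyclic ↥(P : Subgroup G) := isCyclic_of_prime_card hP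
    exact mul_mem (le_centralizer (H := (P : Subgroup G)) hxP) hy
  have hAidx : (A.subgroupOf (centralizer ((P : Subgroup G) : Set G))).index = 2 := by
    have h1 := (A.subgroupOf (centralizer ((P : Subgroup G) : Set G))).card_mul_index
    rw [Nat.card_congr (subgroupOfEquivOfLe hAC).toEquiv, hAc, hC] at h1
    omega
  have hsq : ∀ g ∈ centralizer ((P : Subgroup G) : Set G), g * g ∈ A := fun g hg =>
    mul_self_mem_of_index_two hAidx (⟨g, hg⟩ : ↥(centralizer ((P : Subgroup G) : Set G)))
  have hAnorm : ∀ t ∈ N, ∀ b ∈ A, t * b * t⁻¹ ∈ A := by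
    intro t ht b hb
    have hcm : t * b * t⁻¹ ∈ centralizer ((P : Subgroup G) : Set G) := by
      rw [mem_centralizer_iff]
      intro p hp
      have hp' : t⁻¹ * p * t ∈ (P : Subgroup G) := by
        have := (mem_normalizer_iff.mp (inv_mem ht) p).mp hp
        rwa [inv_inv] at this
      have h1 := mem_centralizer_iff.mp (hAC hb) _ hp'
      calc p * (t * b * t⁻¹) = t * ((t⁻¹ * p * t) * b) * t⁻¹ := by group
        _ = t * (b * (t⁻¹ * p * t)) * t⁻¹ := by rw [h1]
        _ = t * b * t⁻¹ * p := by group
    have h2 := hsq _ hcm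
    have h3 : (t * b * t⁻¹) ^ 35 = 1 := by
      obtain ⟨k, rfl⟩ := mem_zpowers_iff.mp hb
      rw [conj_pow, ← zpow_natCast, ← zpow_mul, mul_comm, zpow_mul, zpow_natCast, ← ha35,
        pow_orderOf_eq_one, one_zpow, mul_one, mul_inv_cancel]
    have h4 : t * b * t⁻¹ = ((t * b * t⁻¹) * (t * b * t⁻¹)) ^ 18 := by
      rw [← pow_two, ← pow_mul, show 2 * 18 = 35 + 1 by norm_num, pow_succ, h3, one_mul]
    rw [h4]
    exact pow_mem h2 18
  -- an involution centralises exactly `zpowers x` in `A`
  have hinvol : ∀ t ∈ N, orderOf t = 2 → Nat.card (MulAction.fixedBy (G ⧸ N) t) = 8 ∧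
      Nat.card ↥(A ⊓ centralizer ({t} : Set G)) = 7 := by
    intro t ht ht2
    have htt : t * t = 1 := by rw [← pow_two, ← ht2, pow_orderOf_eq_one]
    have hc := hcount t ht htt (hAnorm t ht)
    have h4 := SmallGroups.four_dvd_moved h.ne (α := G ⧸ N) (t := t) (by rw [pow_two, htt])
    rw [hcard, hc] at h4
    have hd : Nat.card ↥(A ⊓ centralizer ({t} : Set G)) ∈ Nat.divisors 35 :=
      Nat.mem_divisors.mpr ⟨hAc ▸ card_dvd_of_le inf_le_left, by norm_num⟩
    rw [show Nat.divisors 35 = {1, 5, 7, 35} by decide +kernel] at hd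
    simp only [Finset.mem_insert, Finset.mem_singleton] at hd
    have h35 : Nat.card ↥(A ⊓ centralizer ({t} : Set G)) ≠ 35 := by
      intro e
      have hall : ∀ q : G ⧸ N, t • q = q := by
        intro q
        by_contra hq
        have h1 : Nat.card (MulAction.fixedBy (G ⧸ N) t) < Nat.card (G ⧸ N) :=
          Finite.card_subtype_lt (x := q) hq
        omega
      have : t = 1 := by
        refine SmallGroups.toPerm_injective (H := N) (fun e => ?_) ?_
        · rw [e, card_top, h.card] at hN; omega
        · rw [map_one]; ext q; exact hall q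
      rw [this, orderOf_one] at ht2
      omega
    constructor <;> omega
  haveI : Fact (Nat.Prime 2) := ⟨Nat.prime_two⟩
  haveI : Fact (Nat.Prime 7) := ⟨by norm_num⟩
  obtain ⟨t, htC, ht2⟩ := exists_mem_orderOf (centralizer ((P : Subgroup G) : Set G)) 2
    (by rw [hC]; norm_num)
  have htN : t ∈ N := centralizer_le_normalizer _ htC
  have htt : t * t = 1 := by rw [← pow_two, ← ht2, pow_orderOf_eq_one]
  -- the involutions of `N` lie in one class of five elements of `N`
  have hcentx : ∀ s ∈ N, orderOf s = 2 → Commute s x := by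
    intro s hs hs2
    obtain ⟨z, hz, hz7⟩ := exists_mem_orderOf (A ⊓ centralizer ({s} : Set G)) 7
      (by rw [(hinvol s hs hs2).2])
    obtain ⟨k, hk⟩ := mem_zpowers_iff.mp hz.1
    -- `z` has order seven, so it generates `zpowers x`
    have h5 : (5 : ℤ) ∣ k := by
      have h1 : a ^ (k * 7) = 1 := by
        rw [zpow_mul, hk, show (7 : ℤ) = ((7 : ℕ) : ℤ) by norm_num, zpow_natCast, ← hz7,
          pow_orderOf_eq_one]
      have h2 := orderOf_dvd_iff_zpow_eq_one.mpr h1
      rw [ha35] at h2
      push_cast at h2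
      omega
    obtain ⟨m, rfl⟩ := h5
    have hzx : z = x ^ (5 * m) := by
      rw [← hk, ha, hxy.mul_zpow, zpow_mul y, show (5 : ℤ) = ((5 : ℕ) : ℤ) by norm_num,
        zpow_natCast, hy_pow, one_zpow, mul_one]
    have hxz : x ∈ zpowers z := by
      rw [hzx, mem_zpowers_zpow_iff, hx7]
      show Nat.gcd (5 * m).natAbs 7 = 1
      refine ((Nat.Prime.coprime_iff_not_dvd (by norm_num)).mpr fun hd => ?_).symm
      have h1 : z = 1 := by
        rw [hzx, ← orderOf_dvd_iff_zpow_eq_one, hx7]; exact Int.natCast_dvd.mpr hd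
      rw [h1, orderOf_one] at hz7
      omega
    obtain ⟨j, rfl⟩ := mem_zpowers_iff.mp hxz
    exact ((mem_cent.mp hz.2).symm).zpow_right j
  have hinvy : ∀ s ∈ N, orderOf s = 2 → s * y * s⁻¹ = y⁻¹ := by
    intro s hs hs2
    have hss : s * s = 1 := by rw [← pow_two, ← hs2, pow_orderOf_eq_one]
    obtain ⟨k, hk⟩ := mem_zpowers_iff.mp (hAnorm s hs y hyA)
    -- the fixed element `y * y^s` of the five-part is trivial
    have hmem : y * (s * y * s⁻¹) ∈ A ⊓ centralizer ({s} : Set G) := by
      refine ⟨mul_mem hyA (hAnorm s hs y hyA), mem_cent.mpr ?_⟩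
      have hcy : Commute y (s * y * s⁻¹) := by
        rw [← hk, ha]; exact ((hxy.symm).mul_right (Commute.refl y)).zpow_right k
      refine (mul_inv_eq_iff_eq_mul.mp ?_).symm
      calc s * (y * (s * y * s⁻¹)) * s⁻¹ = (s * y * s⁻¹) * ((s * s) * y * (s * s)⁻¹) := by group
        _ = y * (s * y * s⁻¹) := by rw [hss, one_mul, inv_one, mul_one, hcy.eq]
    have h7 : (y * (s * y * s⁻¹)) ^ 7 = 1 := by
      have h1 := pow_card_eq_one' (x := (⟨_, hmem⟩ : ↥(A ⊓ centralizer ({s} : Set G))))
      rw [(hinvol s hs hs2).2] at h1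
      exact congrArg Subtype.val h1
    have h5 : (y * (s * y * s⁻¹)) ^ 5 = 1 := by
      have hcy : Commute y (s * y * s⁻¹) := by
        rw [← hk, ha]; exact ((hxy.symm).mul_right (Commute.refl y)).zpow_right k
      rw [hcy.mul_pow, conj_pow, hy_pow, mul_one, mul_inv_cancel, one_mul]
    have h1 : y * (s * y * s⁻¹) = 1 :=
      calc y * (s * y * s⁻¹) = ((y * (s * y * s⁻¹)) ^ 5) ^ 3 * ((y * (s * y * s⁻¹)) ^ 7) ^ (-2 : ℤ) := by
            group
        _ = 1 := by rw [h5, h7, one_pow, one_zpow, one_mul]
    exact eq_inv_of_mul_eq_one_right h1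
  have hclass : Nat.card {g : G // IsConj t g ∧ g ∈ N} = 5 := by
    have hyz : Nat.card ↥(zpowers y) = 5 := by rw [Nat.card_zpowers, hy5]
    have hconj : ∀ s ∈ N, orderOf s = 2 → t * s ∈ zpowers y := by
      intro s hs hs2
      -- `t * s` centralises `A`, hence lies in it
      have hss : s * s = 1 := by rw [← pow_two, ← hs2, pow_orderOf_eq_one]
      have hcx : Commute (t * s) x := (hcentx t htN ht2).mul_left (hcentx s hs hs2)
      have hcy : Commute (t * s) y := by
        refine mul_inv_eq_iff_eq_mul.mp ?_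
        calc (t * s) * y * (t * s)⁻¹ = t * (s * y * s⁻¹) * t⁻¹ := by group
          _ = y := by rw [hinvy s hs hs2, ← conj_inv, hinvy t htN ht2, inv_inv]
      have hmemC : t * s ∈ centralizer ((P : Subgroup G) : Set G) := by
        have he : zpowers x = (P : Subgroup G) :=
          eq_of_le_of_card_ge (zpowers_le.mpr hxP) (by rw [hP, Nat.card_zpowers, hx7])
        rw [← he, cent_zpowers]
        exact mem_cent.mpr hcx
      have htsA : t * s ∈ A := by
        by_contra hts
        have htA : t ∉ A := fun ht' => by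
          have := orderOf_dvd_natCard _ ht'
          rw [ht2, hAc] at this
          omega
        have h1 : t * s * t ∈ A :=
          (mul_mem_iff_of_index_two hAidx (a := ⟨_, hmemC⟩) (b := ⟨t, htC⟩)).mpr
            (iff_of_false hts htA)
        -- then `t` would centralise `y`
        have h2 : Commute (t * s * t) y := by
          obtain ⟨j, hj⟩ := mem_zpowers_iff.mp h1
          rw [← hj, ha]; exact (hxy.mul_left (Commute.refl y)).zpow_left j
        have h3 : Commute t y := by
          have := (hcy.inv_left).mul_left h2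
          simpa [mul_assoc] using this
        have h4 := hinvy t htN ht2
        rw [h3.eq, mul_inv_cancel_right] at h4
        have h5 : y ^ 2 = 1 := by rw [pow_two, ← eq_inv_iff_mul_eq_one]; exact h4
        have := orderOf_dvd_of_pow_eq_one h5
        rw [hy5] at this
        norm_num at this
      obtain ⟨k, hk⟩ := mem_zpowers_iff.mp htsA
      -- it is inverted by `t` and `x` is centralised
      have h1 : t * (t * s) * t⁻¹ = (t * s)⁻¹ := by
        rw [mul_inv_rev, inv_eq_of_mul_eq_one_right htt, inv_eq_of_mul_eq_one_right hss,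
          ← mul_assoc, htt, one_mul]
      have h2 : t * (t * s) * t⁻¹ = x ^ k * y ^ (-k) := by
        rw [← hk, ha, hxy.mul_zpow, ← conj_mul, ← conj_zpow, ← conj_zpow,
          hinvy t htN ht2, inv_zpow', (hcentx t htN ht2).eq, mul_inv_cancel_right]
      rw [h1, ← hk, ha, hxy.mul_zpow, (hxy.zpow_zpow k k).eq, mul_inv_rev, ← zpow_neg,
        ← zpow_neg] at h2
      have h3 : x ^ (-k) = x ^ k := mul_right_cancel h2
      have h4 : x ^ (2 * k) = 1 := by
        rw [two_mul, zpow_add]; nth_rw 1 [← h3]; rw [← zpow_add, neg_add_cancel, zpow_zero]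
      have h5 := orderOf_dvd_iff_zpow_eq_one.mpr h4
      rw [hx7] at h5
      push_cast at h5
      have h7 : ((orderOf x : ℕ) : ℤ) ∣ k := by rw [hx7]; push_cast; omega
      rw [← hk, ha, hxy.mul_zpow, orderOf_dvd_iff_zpow_eq_one.mp h7, one_mul]
      exact zpow_mem (mem_zpowers y) k
    refine (Nat.card_congr ?_).trans hyz
    refine Equiv.ofBijective (fun g => ⟨t * g.1, hconj g.1 g.2.2 (by
      obtain ⟨d, hd⟩ := isConj_iff.mp g.2.1
      rw [← hd]; exact ((MulAut.conj d).orderOf_eq t).trans ht2)⟩) ⟨?_, ?_⟩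
    · intro g g' he
      exact Subtype.ext (mul_left_cancel (congrArg Subtype.val he))
    · rintro ⟨b, hb⟩
      obtain ⟨k, rfl⟩ := mem_zpowers_iff.mp hb
      -- `y ^ (3 * k)` conjugates `t` to `t * y ^ k`
      refine ⟨⟨t * y ^ k, isConj_iff.mpr ⟨y ^ (2 * k), ?_⟩, mul_mem htN (zpow_mem hyN k)⟩,
        Subtype.ext (by show t * (t * y ^ k) = y ^ k; rw [← mul_assoc, htt, one_mul])⟩
      have h1 : t * y ^ (-(2 * k)) * t⁻¹ = y ^ (2 * k) := by
        rw [← conj_zpow, hinvy t htN ht2, inv_zpow', neg_neg]
      calc y ^ (2 * k) * t * (y ^ (2 * k))⁻¹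
          = (t * y ^ (-(2 * k)) * t⁻¹) * t * (y ^ (2 * k))⁻¹ := by rw [h1]
        _ = t * y ^ (-(4 * k)) := by group
        _ = t * y ^ k := by
            congr 1
            rw [← orderOf_dvd_sub_iff_zpow_eq_zpow, hy5]
            omega
  have h1 := SmallGroups.card_fixedBy_mul N t
  rw [(hinvol t htN ht2).1, hclass, index_eq_card, hcard] at h1
  have h2 := SmallGroups.card_conj_mul_centralizer t
  rw [h.card] at h2
  have h224 : Nat.card ↥(centralizer ({t} : Set G)) = 224 := by nlinarith
  have h3 := card_subgroup_dvd_card (centralizer ({t} : Set G))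
  rw [h224, h.card] at h3
  norm_num at h3

/-- The normaliser of a Sylow `7`-subgroup has order `42`. -/
theorem card_norm_seven (P : Sylow 7 G) [Fact (Nat.Prime 7)] :
    Nat.card ↥(normalizer ((P : Subgroup G) : Set G)) = 42 := by
  have hG : Nat.card G = 7 ^ 1 * 720 := by rw [h.card]; norm_num
  have hP : Nat.card ↥(P : Subgroup G) = 7 := by
    rw [SmallGroups.card_sylow_eq hG (by norm_num) P, pow_one]
  set N := normalizer ((P : Subgroup G) : Set G)
  set C := centralizer ((P : Subgroup G) : Set G) with hC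
  have hle : C ≤ N := centralizer_le_normalizer _
  have hCN : C.relIndex N ∣ 6 := SmallGroups.relIndex_centralizer_dvd_of_prime _ hP
  have hprod : Nat.card C * C.relIndex N = Nat.card N := by
    have h1 := (C.subgroupOf N).card_mul_index
    rwa [Nat.card_congr (subgroupOfEquivOfLe hle).toEquiv] at h1
  have hne1 : C.relIndex N ≠ 1 := by
    intro h1
    exact SmallGroups.not_normalizer_le_centralizer h.ne (by rw [h.card]; norm_num) P
      (relIndex_eq_one.mp h1)
  have hNn : Nat.card N * _ = _ := SmallGroups.card_normalizer_mul P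
  rw [h.card] at hNn
  have hmem := SmallGroups.card_sylow_mem_list (G := G) hG (by norm_num)
  rw [show (Nat.divisors 720).filter (fun d => d % 7 = 1) = {1, 8, 15, 36, 120} by
    decide +kernel] at hmem
  have hNT : N ≠ ⊤ := fun hN => SmallGroups.card_sylow_ne_one h.ne
    (p := 7) (by rw [h.card]; norm_num)
    (by rw [card_sylow_index P]; change N.index = 1; rw [hN, index_top])
  have hbound := h.card_le N hNT
  have hfix : ∀ s ∈ C, ∀ n, Nat.card (Sylow 7 G) = n →
      Nat.card (MulAction.fixedBy (G ⧸ N) s) ≡ 1 [MOD 7] ∧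
      Nat.card (MulAction.fixedBy (G ⧸ N) s) ≤ n ∧
      Nat.card (G ⧸ N) = n ∧
      (Nat.card (MulAction.fixedBy (G ⧸ N) s) = n → s = 1) := by
    intro s hs n hn
    have hcard : Nat.card (G ⧸ N) = n := by
      rw [← index_eq_card]; exact (card_sylow_index P).symm.trans hn
    refine ⟨SmallGroups.card_fixedBy_modEq_one P hP hs, ?_, hcard, fun he => ?_⟩
    · rw [← hcard]; exact Finite.card_subtype_le _
    · have hall : ∀ q : G ⧸ N, s • q = q := by
        intro q
        by_contra hq
        have h1 : Nat.card (MulAction.fixedBy (G ⧸ N) s) < Nat.card (G ⧸ N) :=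
          Finite.card_subtype_lt (x := q) hq
        omega
      refine SmallGroups.toPerm_injective hNT ?_
      rw [map_one]
      ext q
      exact hall q
  simp only [Finset.mem_insert, Finset.mem_singleton] at hmem
  rcases hmem with hn | hn | hn | hn | hn <;> rw [hn] at hNn <;> try omega
  · exfalso
    have hN : Nat.card N = 336 := by omega
    rw [hN] at hprod
    have h2 : 2 ∣ Nat.card C := by
      obtain ⟨k, hk⟩ := hCN
      have : Nat.card C * 6 = 336 * k := by rw [← hprod, hk]; ring
      omega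
    haveI : Fact (Nat.Prime 2) := ⟨Nat.prime_two⟩
    obtain ⟨s, hs, hs2⟩ := exists_mem_orderOf C 2 h2
    obtain ⟨h1, h1', h3, h4⟩ := hfix s hs 15 hn
    have h6 := SmallGroups.four_dvd_moved h.ne (α := G ⧸ N) (t := s)
      (by rw [← hs2]; exact pow_orderOf_eq_one s)
    rw [h3] at h6
    unfold Nat.ModEq at h1
    have : Nat.card (MulAction.fixedBy (G ⧸ N) s) = 15 := by omega
    rw [h4 this, orderOf_one] at hs2
    omega
  · exfalso
    have hN : Nat.card N = 140 := by omega
    rw [hN] at hprod
    have hr : C.relIndex N ∈ Nat.divisors 6 := Nat.mem_divisors.mpr ⟨hCN, by norm_num⟩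
    rw [show Nat.divisors 6 = {1, 2, 3, 6} from by decide +kernel] at hr
    simp only [Finset.mem_insert, Finset.mem_singleton] at hr
    have hC70 : Nat.card C = 70 := by
      rcases hr with e | e | e | e <;> rw [e] at hprod <;> omega
    haveI : Fact (Nat.Prime 2) := ⟨Nat.prime_two⟩
    haveI : Fact (Nat.Prime 5) := ⟨by norm_num⟩
    obtain ⟨y, hy, hy5⟩ := exists_mem_orderOf C 5 (by rw [hC70]; norm_num)
    obtain ⟨y1, y2, y3, y4⟩ := hfix y hy 36 hn
    have hy1 : Nat.card (MulAction.fixedBy (G ⧸ N) y) = 1 := by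
      have ym := SmallGroups.card_fixedBy_modEq_card (q := 5) (α := G ⧸ N) (x := y) (i := 1)
        (by rw [pow_one, ← hy5]; exact pow_orderOf_eq_one y)
      rw [y3] at ym
      unfold Nat.ModEq at y1 ym
      have : Nat.card (MulAction.fixedBy (G ⧸ N) y) ≠ 36 := fun e => by
        rw [y4 e, orderOf_one] at hy5; omega
      omega
    exact thirtySix_false h P hP hN hC70 hy hy5 y3 hy1

end Hyp

end Cfsg.Agent.BC87.N5040
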