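import Cfsg.Agent.BC87.N5040.Four
import Cfsg.Agent.BC87.N5040.Big

/-!
# There is no simple group of order `5040`

The centraliser of an element of order `3` normalises the Sylow `3`-subgroup containing it.
With `70` Sylow subgroups two of them meet; with `280` the normaliser of a Sylow
`7`-subgroup gives an element of order `3` with too big a centraliser.
-/

set_option autoImplicit false

namespace Cfsg.Agent.BC87.N5040

open Subgroup
open Cfsg.Agent.BC87.A7 (mem_cent exists_mem_orderOf inner_count exists_sylow_mem card_sylow_index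
  cent_zpowers stab_mul_range mem_zpowers_three)

variable {G : Type*} [Group G] [Finite G]

namespace Hyp

variable [IsSimpleGroup G] (h : Hyp G) [Fact (Nat.Prime 3)]
include h

theorem cent_le_norm (P : Sylow 3 G) {z : G} (hz : orderOf z = 3) (hzP : z ∈ (P : Subgroup G)) :
    centralizer ({z} : Set G) ≤ normalizer ((P : Subgroup G) : Set G) := by
  have hz1 : z ≠ 1 := fun e => by rw [e, orderOf_one] at hz; omega
  set N := normalizer ((P : Subgroup G) : Set G) with hN
  set C := centralizer ({z} : Set G) with hC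
  obtain ⟨n, hn3, hkn⟩ := inner_count P C (h.le_cent_three P hzP)
  rw [← hN] at hkn
  have h144 : Nat.card C ∣ 144 := by
    have h1 : Nat.card C ∣ 5040 := h.card ▸ card_subgroup_dvd_card C
    have h2 : Nat.card C ∣ 720 :=
      ((Nat.Prime.coprime_iff_not_dvd (by norm_num : Nat.Prime 7)).mpr (h.seven_cent hz)).symm.dvd_of_dvd_mul_right
        (show Nat.card C ∣ 720 * 7 from h1)
    exact ((Nat.Prime.coprime_iff_not_dvd (by norm_num : Nat.Prime 5)).mpr (h.no_five_cent hz)).symm.dvd_of_dvd_mul_right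
      (show Nat.card C ∣ 144 * 5 from h2)
  have hreal : ∀ {g : G}, g * z * g⁻¹ = z⁻¹ → Nat.card C ≠ 144 := by
    intro g hg hc
    have h1 := card_subgroup_dvd_card (normalizer ((zpowers z : Subgroup G) : Set G))
    rw [h.card_norm_zpowers hz hg, ← hC, hc, h.card] at h1
    norm_num at h1
  have hle144 := Nat.le_of_dvd (by norm_num) h144
  by_cases hn1 : n = 1
  · rw [hn1, mul_one] at hkn
    exact (eq_of_le_of_card_ge inf_le_right hkn.ge) ▸ inf_le_left
  exfalso
  rcases h.stab_card P hzP hz1 with e | ⟨e72, e | e⟩ <;> rw [← hN, ← hC] at e <;> rw [e] at hkn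
  · have hn16 : n ∣ 16 := by
      rw [← hkn] at h144
      exact Nat.dvd_of_mul_dvd_mul_left (by norm_num) (show 9 * n ∣ 9 * 16 from h144)
    obtain ⟨i, hi, rfl⟩ := (Nat.dvd_prime_pow Nat.prime_two).mp (show n ∣ 2 ^ 4 from hn16)
    interval_cases i <;> (try (norm_num at hn3; done)) <;> (try (norm_num at hn1; done))
    · exact h.four_false P hz hzP (by rw [← hC, ← hkn]; norm_num) (by rw [← hN, ← hC]; exact e)
    · obtain ⟨g, -, hg⟩ := h.real_of_nine P hzP hz1 (by rw [← hN, ← hC]; exact e)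
      exact hreal hg (by rw [← hkn]; norm_num)
  · have hn8 : n ∣ 8 := by
      rw [← hkn] at h144
      exact Nat.dvd_of_mul_dvd_mul_left (by norm_num) (show 18 * n ∣ 18 * 8 from h144)
    obtain ⟨i, hi, rfl⟩ := (Nat.dvd_prime_pow Nat.prime_two).mp (show n ∣ 2 ^ 3 from hn8)
    interval_cases i <;> (try (norm_num at hn3; done)) <;> (try (norm_num at hn1; done))
    exact h.big_false P hz hzP (by rw [← hC, ← hkn]; norm_num) (by rw [← hN, ← hC]; exact e)
  · have hn4 : n ∣ 4 := by
      rw [← hkn] at h144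
      exact Nat.dvd_of_mul_dvd_mul_left (by norm_num) (show 36 * n ∣ 36 * 4 from h144)
    have := Nat.le_of_dvd (by norm_num) hn4
    have hn4' : n = 4 := by omega
    obtain ⟨g, -, hg⟩ := h.real_of_half P hzP (by rw [← hN, ← hC, e, e72])
    exact hreal hg (by rw [← hkn, hn4'])

/-- Distinct Sylow `3`-subgroups meet trivially. -/
theorem sylow_inf_trivial {P R : Sylow 3 G} (hne : P ≠ R) {z : G} (hz : orderOf z = 3)
    (hzP : z ∈ (P : Subgroup G)) : z ∉ (R : Subgroup G) := by
  intro hzR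
  have hR : (R : Subgroup G) ≤ normalizer ((P : Subgroup G) : Set G) :=
    (h.le_cent_three R hzR).trans (h.cent_le_norm P hz hzP)
  have h2 : (R : Subgroup G) ⊓ normalizer ((P : Subgroup G) : Set G) =
      (R : Subgroup G) ⊓ (P : Subgroup G) := R.2.inf_normalizer_sylow P
  rw [inf_eq_left.mpr hR] at h2
  exact hne (Sylow.ext (eq_of_le_of_card_ge (inf_eq_left.mp h2.symm)
    (by rw [h.card_three P, h.card_three R]))).symm

theorem norm_eq_eighteen (P : Sylow 3 G) :
    Nat.card ↥(normalizer ((P : Subgroup G) : Set G)) = 18 := by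
  refine (h.card_norm P).resolve_left fun h72 => ?_
  have h70 : Nat.card (Sylow 3 G) = 70 := by
    have h1 := SmallGroups.card_normalizer_mul P
    rw [h.card, h72] at h1
    omega
  obtain ⟨Q, R, hQR, hle⟩ := SmallGroups.exists_small_index_inter (G := G) (p := 3) 2
    (by rw [h70]; decide)
  have hc := ((R : Subgroup G).subgroupOf (Q : Subgroup G)).card_mul_index
  rw [h.card_three Q] at hc
  have hdvd : 3 ∣ Nat.card ↥((R : Subgroup G).subgroupOf (Q : Subgroup G)) := by
    have h9 : Nat.card ↥((R : Subgroup G).subgroupOf (Q : Subgroup G)) ∣ 3 ^ 2 := ⟨_, hc.symm⟩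
    obtain ⟨i, hi, he⟩ := (Nat.dvd_prime_pow Nat.prime_three).mp h9
    rw [he] at hc ⊢
    rcases i with _ | i
    · exfalso; norm_num at hle hc; omega
    · exact dvd_pow_self 3 (Nat.succ_ne_zero i)
  obtain ⟨⟨x, hxQ⟩, hx⟩ := exists_prime_orderOf_dvd_card' 3 hdvd
  have hx3 : orderOf (x : G) = 3 := by
    rw [orderOf_coe]; exact (orderOf_mk x hxQ).symm.trans hx
  exact h.sylow_inf_trivial hQR hx3 x.2 (mem_subgroupOf.mp hxQ)

theorem cent_three {z : G} (hz : orderOf z = 3) : Nat.card ↥(centralizer ({z} : Set G)) = 9 := by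
  obtain ⟨P, hzP⟩ := exists_sylow_mem hz
  have hz1 : z ≠ 1 := fun e => by rw [e, orderOf_one] at hz; omega
  rcases h.stab_card P hzP hz1 with e | ⟨e, -⟩
  · rwa [inf_eq_right.mpr (h.cent_le_norm P hz hzP)] at e
  · rw [h.norm_eq_eighteen P] at e; omega

omit [Fact (Nat.Prime 3)] in
/-- The normaliser of a Sylow `7`-subgroup has no room left. -/
theorem absurd_card : False := by
  haveI : Fact (Nat.Prime 3) := ⟨Nat.prime_three⟩
  haveI : Fact (Nat.Prime 7) := ⟨by norm_num⟩
  obtain ⟨Q⟩ := (inferInstance : Nonempty (Sylow 7 G))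
  set N := normalizer ((Q : Subgroup G) : Set G) with hN
  have hN42 : Nat.card N = 42 := h.card_norm_seven Q
  obtain ⟨w, hwN, hw⟩ := exists_mem_orderOf N 3 (by rw [hN42]; norm_num)
  obtain ⟨S, hwS⟩ := exists_sylow_mem (G := ↥N) (p := 3) (z := ⟨w, hwN⟩)
    (by rw [orderOf_mk]; exact hw)
  have hSc : Nat.card ↥(S : Subgroup ↥N) = 3 := by
    rw [SmallGroups.card_sylow_eq (a := 1) (m := 14) (by rw [hN42]; norm_num) (by norm_num) S,
      pow_one]
  have hWN : zpowers w ≤ N := zpowers_le.mpr hwN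
  have hSe : (zpowers w).subgroupOf N = (S : Subgroup ↥N) := by
    refine eq_of_le_of_card_ge ?_ ?_
    · intro b hb
      rw [mem_subgroupOf, mem_zpowers_iff] at hb
      obtain ⟨i, hi⟩ := hb
      have : (⟨w, hwN⟩ : ↥N) ^ i = b := Subtype.ext (by simpa using hi)
      exact this ▸ zpow_mem hwS i
    · rw [hSc, Nat.card_congr (subgroupOfEquivOfLe hWN).toEquiv, Nat.card_zpowers, hw]
  set M := normalizer ((zpowers w : Subgroup G) : Set G) with hM
  have hMN : Nat.card ↥(M ⊓ N) ≠ 3 := by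
    intro he
    have h1 := (M.subgroupOf N).card_mul_index
    rw [← inf_subgroupOf_right, Nat.card_congr (subgroupOfEquivOfLe inf_le_right).toEquiv, he,
      inf_subgroupOf_right, hN42] at h1
    have h3 := card_sylow_modEq_one 3 ↥N
    rw [card_sylow_index S, ← hSe, ← subgroupOf_normalizer_eq hWN, ← hM] at h3
    unfold Nat.ModEq at h3
    omega
  obtain ⟨t, ht, htw⟩ : ∃ t ∈ M ⊓ N, ¬ Commute t w := by
    by_contra hc
    push_neg at hc
    have hle : M ⊓ N ≤ centralizer ({w} : Set G) := fun t ht => mem_cent.mpr (hc t ht)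
    have h9 := card_dvd_of_le hle
    rw [h.cent_three hw] at h9
    have h42 : Nat.card ↥(M ⊓ N) ∣ 42 := hN42 ▸ card_dvd_of_le inf_le_right
    have h3 : 3 ∣ Nat.card ↥(M ⊓ N) := by
      have := card_dvd_of_le (le_inf (le_normalizer (H := zpowers w)) hWN)
      rwa [Nat.card_zpowers, hw] at this
    exact hMN (Nat.dvd_antisymm ((Nat.dvd_gcd h9 h42).trans (by norm_num)) h3)
  have hinv : t * w * t⁻¹ = w⁻¹ := by
    rcases zpowers_conj_mem hw ht.1 with e | e
    · exact absurd (mul_inv_eq_iff_eq_mul.mp e) htw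
    · exact e
  have hQ : Nat.card ↥(Q : Subgroup G) = 7 := by
    rw [SmallGroups.card_sylow_eq (a := 1) (m := 720) (by rw [h.card]; norm_num) (by norm_num) Q,
      pow_one]
  obtain ⟨x, hxQ, hx⟩ := exists_mem_orderOf (Q : Subgroup G) 7 (by rw [hQ])
  have he : zpowers x = (Q : Subgroup G) :=
    eq_of_le_of_card_ge (zpowers_le.mpr hxQ) (by rw [hQ, Nat.card_zpowers, hx])
  have hmem : ∀ m ∈ N, ∃ j : ℤ, m * x * m⁻¹ = x ^ j := fun m hm => by
    have h1 := (mem_normalizer_iff.mp hm x).mp hxQ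
    rw [← he, mem_zpowers_iff] at h1
    obtain ⟨j, hj⟩ := h1
    exact ⟨j, hj.symm⟩
  obtain ⟨a, ha⟩ := hmem w hwN
  obtain ⟨b, hb⟩ := hmem t ht.2
  -- the two actions on the cyclic group commute
  have hswap : (w * t) * x * (w * t)⁻¹ = (t * w) * x * (t * w)⁻¹ :=
    calc (w * t) * x * (w * t)⁻¹ = w * (t * x * t⁻¹) * w⁻¹ := by group
      _ = (x ^ a) ^ b := by rw [hb, ← conj_zpow, ha]
      _ = (x ^ b) ^ a := by rw [← zpow_mul, ← zpow_mul, mul_comm]
      _ = t * (w * x * w⁻¹) * t⁻¹ := by rw [ha, ← conj_zpow, hb]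
      _ = (t * w) * x * (t * w)⁻¹ := by group
  rw [mul_inv_eq_iff_eq_mul.mp hinv] at hswap
  have h2 : (w * w) * (t * x * t⁻¹) * (w * w)⁻¹ = t * x * t⁻¹ :=
    calc (w * w) * (t * x * t⁻¹) * (w * w)⁻¹ = w * ((w * t) * x * (w * t)⁻¹) * w⁻¹ := by group
      _ = t * x * t⁻¹ := by rw [hswap]; group
  have h3 : Commute w (t * x * t⁻¹) := by
    have h4 : Commute (w * w) (t * x * t⁻¹) := mul_inv_eq_iff_eq_mul.mp h2
    have h5 := h4.pow_left 2
    have h6 : (w * w) ^ 2 = w := by
      rw [← pow_two, ← pow_mul, pow_succ, ← hw, pow_orderOf_eq_one, one_mul]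
    rwa [h6] at h5
  refine h.seven_cent hw ?_
  have h7 : orderOf (t * x * t⁻¹) = 7 := ((MulAut.conj t).orderOf_eq x).trans hx
  exact h7 ▸ orderOf_dvd_natCard _ (mem_cent.mpr h3.symm)

end Hyp

end Cfsg.Agent.BC87.N5040
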