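import Cfsg.Agent.BC87.N5040.Lines

/-!
# No element of order `3` with centraliser of order `36`
-/

set_option autoImplicit false

namespace Cfsg.Agent.BC87.N5040

open Subgroup
open Cfsg.Agent.BC87.A7 (mem_cent exists_mem_orderOf inner_count exists_sylow_mem card_sylow_index
  cent_zpowers stab_mul_range mem_zpowers_three fixed_eq_one)

variable {G : Type*} [Group G] [Finite G]

namespace Hyp

variable [IsSimpleGroup G] (h : Hyp G) [Fact (Nat.Prime 3)]
include h

/-- With a stabiliser of order `9` in a normaliser of order `72` the orbit is everything. -/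
theorem mem_orbit_all (P : Sylow 3 G) {z : G} (hz : z ∈ (P : Subgroup G)) (hz1 : z ≠ 1)
    (hN : Nat.card ↥(normalizer ((P : Subgroup G) : Set G)) = 72)
    (hk : Nat.card ↥(normalizer ((P : Subgroup G) : Set G) ⊓ centralizer ({z} : Set G)) = 9)
    {e : G} (he : e ∈ (P : Subgroup G)) (he1 : e ≠ 1) :
    ∃ n ∈ normalizer ((P : Subgroup G) : Set G), n * z * n⁻¹ = e := by
  classical
  have h1 := stab_mul_range (normalizer ((P : Subgroup G) : Set G)) z
  rw [hk, hN] at h1
  set O := Set.range fun n : normalizer ((P : Subgroup G) : Set G) =>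
    (n : G) * z * (n : G)⁻¹ with hO
  have hO8 : O.ncard = 8 := by rw [← Nat.card_coe_set_eq]; omega
  have hsub : O ⊆ ((P : Subgroup G) : Set G) \ {1} := by
    rintro _ ⟨n, rfl⟩
    exact ⟨(mem_normalizer_iff.mp n.2 z).mp hz, fun h' => hz1 (conj_eq_one_iff.mp h')⟩
  have hc : (((P : Subgroup G) : Set G) \ {1}).ncard = 8 := by
    rw [Set.ncard_sdiff_singleton_of_mem (one_mem (P : Subgroup G)), ← Nat.card_coe_set_eq,
      SetLike.coe_sort_coe, h.card_three P]
  have heq := Set.eq_of_subset_of_ncard_le hsub (by rw [hc, hO8]) (Set.toFinite _)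
  have hmem : e ∈ O := by rw [heq]; exact ⟨he, he1⟩
  obtain ⟨n, hn⟩ := hmem
  exact ⟨n, n.2, hn⟩

variable (P : Sylow 3 G) {z : G} (hz : orderOf z = 3) (hzP : z ∈ (P : Subgroup G))
  (hC36 : Nat.card ↥(centralizer ({z} : Set G)) = 36)
  (hk : Nat.card ↥(normalizer ((P : Subgroup G) : Set G) ⊓ centralizer ({z} : Set G)) = 9)
include hz hzP hk

theorem four_norm_inf :
    normalizer ((P : Subgroup G) : Set G) ⊓ centralizer ({z} : Set G) = (P : Subgroup G) :=
  (eq_of_le_of_card_ge (le_inf le_normalizer (h.le_cent_three P hzP))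
    (by rw [hk, h.card_three P])).symm

theorem four_cent_sylow (Q : Sylow 3 G) {a : G}
    (ha : a ∈ centralizer ((Q : Subgroup G) : Set G)) : a ∈ (Q : Subgroup G) := by
  obtain ⟨g, hg⟩ := MulAction.exists_smul_eq G P Q
  have hQ : (Q : Subgroup G) = (P : Subgroup G).map (MulAut.conj g).toMonoidHom := by
    rw [← hg]; rfl
  have hmem : ∀ b ∈ (P : Subgroup G), g * b * g⁻¹ ∈ (Q : Subgroup G) := fun b hb => by
    rw [hQ]; exact mem_map_of_mem _ hb
  have h1 : g⁻¹ * a * g ∈ centralizer ((P : Subgroup G) : Set G) := by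
    rw [mem_centralizer_iff]
    intro b hb
    have h2 := mem_centralizer_iff.mp ha _ (hmem b hb)
    calc b * (g⁻¹ * a * g) = g⁻¹ * ((g * b * g⁻¹) * a) * g := by group
      _ = g⁻¹ * (a * (g * b * g⁻¹)) * g := by rw [h2]
      _ = g⁻¹ * a * g * b := by group
  have h3 : g⁻¹ * a * g ∈ (P : Subgroup G) := by
    rw [← h.four_norm_inf P hz hzP hk]
    exact ⟨centralizer_le_normalizer _ h1, mem_cent.mpr (mem_centralizer_iff.mp h1 z hzP).symm⟩
  have := hmem _ h3
  simpa [mul_assoc] using this

theorem four_not_inv (Q : Sylow 3 G) {a : G} (ha : orderOf a = 2) :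
    a ∉ centralizer ((Q : Subgroup G) : Set G) := fun hc => by
  have := orderOf_dvd_natCard _ (h.four_cent_sylow P hz hzP hk Q hc)
  rw [ha, h.card_three Q] at this
  norm_num at this

theorem four_inverter : ∃ t : G, t ∈ normalizer ((P : Subgroup G) : Set G) ∧ orderOf t = 2 ∧
    ∀ p ∈ (P : Subgroup G), t * p * t⁻¹ = p⁻¹ := by
  haveI : Fact (Nat.Prime 2) := ⟨Nat.prime_two⟩
  set N := normalizer ((P : Subgroup G) : Set G) with hN
  have hz1 : z ≠ 1 := fun e => by rw [e, orderOf_one] at hz; omega
  obtain ⟨t, htN, ht2⟩ := exists_mem_orderOf N 2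
    (by rcases h.card_norm P with e | e <;> rw [← hN] at e <;> rw [e] <;> norm_num)
  have htt : t * t = 1 := by rw [← pow_two, ← ht2, pow_orderOf_eq_one]
  have hfree : ∀ e ∈ (P : Subgroup G), Commute t e → e = 1 := by
    intro e heP hte
    by_contra he1
    rcases h.card_norm P with hN' | hN'
    · obtain ⟨n, hn, he⟩ := h.mem_orbit_all P hzP hz1 hN' hk heP he1
      have h1 : n⁻¹ * t * n ∈ (P : Subgroup G) := by
        rw [← h.four_norm_inf P hz hzP hk]
        refine ⟨N.mul_mem (N.mul_mem (N.inv_mem hn) htN) hn, mem_cent.mpr ?_⟩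
        have h2 : Commute (n⁻¹ * t * n⁻¹⁻¹) (n⁻¹ * e * n⁻¹⁻¹) := hte.map (MulAut.conj n⁻¹)
        have h3 : n⁻¹ * e * n⁻¹⁻¹ = z := by rw [← he]; group
        rwa [h3, inv_inv] at h2
      have h2 := orderOf_dvd_natCard _ h1
      have h3 : orderOf (n⁻¹ * t * n) = 2 := by
        have := (MulAut.conj n⁻¹).orderOf_eq t
        rw [MulAut.conj_apply, inv_inv] at this
        rw [this, ht2]
      rw [h3, h.card_three P] at h2
      norm_num at h2
    · rcases h.stab_card P heP he1 with e' | ⟨e', -⟩
      · have h2 := orderOf_dvd_natCard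
          (normalizer ((P : Subgroup G) : Set G) ⊓ centralizer ({e} : Set G))
          (show t ∈ _ from ⟨htN, mem_cent.mpr hte⟩)
        rw [ht2, e'] at h2
        norm_num at h2
      · rw [e'] at hN'; omega
  refine ⟨t, htN, ht2, fun p hp => ?_⟩
  have hp' : t * p * t⁻¹ ∈ (P : Subgroup G) := (mem_normalizer_iff.mp htN p).mp hp
  refine eq_inv_of_mul_eq_one_right (hfree _ (mul_mem hp hp') ?_)
  refine mul_inv_eq_iff_eq_mul.mp ?_
  have hc : p * (t * p * t⁻¹) = (t * p * t⁻¹) * p :=
    congrArg Subtype.val (isMulCommutative_iff.mp (h.comm_three P) ⟨p, hp⟩ ⟨_, hp'⟩)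
  calc t * (p * (t * p * t⁻¹)) * t⁻¹ = (t * p * t⁻¹) * ((t * t) * p * (t * t)⁻¹) := by group
    _ = p * (t * p * t⁻¹) := by rw [htt, one_mul, inv_one, mul_one, hc]

include hC36

/-- The normal four-subgroup of `C(z)`. -/
theorem four_group : ∃ V : Subgroup G, Nat.card V = 4 ∧ V ≤ centralizer ({z} : Set G) ∧
    (∀ a ∈ V, a * a = 1) ∧
    (∀ c ∈ centralizer ({z} : Set G), ∀ a ∈ V, c * a * c⁻¹ ∈ V) ∧
    ∀ (a : G) (n : ℕ), a ∈ centralizer ({z} : Set G) → n.Coprime 3 → a ^ n = 1 → a ∈ V := by
  have hPC := h.le_cent_three P hzP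
  obtain ⟨K, hKC, hKc, hKn, hKmem⟩ := h.exists_complement P hPC (by
    rw [h.four_norm_inf P hz hzP hk]
    haveI := h.comm_three P
    exact le_centralizer _)
  have hK4 : Nat.card K = 4 := by rw [hC36] at hKc; omega
  refine ⟨K, hK4, hKC, fun a ha => ?_, hKn, hKmem⟩
  by_contra hne
  have h4 : a ^ 4 = 1 := by
    have h1 := pow_card_eq_one' (x := (⟨a, ha⟩ : ↥K))
    rw [hK4] at h1
    exact congrArg Subtype.val h1
  have hord : orderOf a = 4 := by
    refine orderOf_eq_prime_pow (p := 2) (n := 1) ?_ (by norm_num; exact h4)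
    simpa [pow_two] using hne
  have hKz : zpowers a = K :=
    eq_of_le_of_card_ge (zpowers_le.mpr ha) (by rw [hK4, Nat.card_zpowers, hord])
  have hs2 : orderOf (a * a) = 2 :=
    orderOf_eq_prime (by rw [← pow_two, ← pow_mul]; exact h4) hne
  refine h.four_not_inv P hz hzP hk P hs2 ?_
  rw [mem_centralizer_iff]
  intro p hp
  have hu : p * a * p⁻¹ ∈ zpowers a := hKz ▸ hKn p (hPC hp) a ha
  obtain ⟨i, hi⟩ := mem_zpowers_iff.mp hu
  have h1 : p * (a * a) * p⁻¹ = (a * a) ^ i := by
    rw [← conj_mul, ← hi, (Commute.refl a).mul_zpow]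
  have hp1 : p * (a * a) * p⁻¹ ≠ 1 := fun e => hne (conj_eq_one_iff.mp e)
  rw [← zpow_mod_orderOf, hs2] at h1
  rcases Int.emod_two_eq_zero_or_one i with e | e <;> push_cast at h1 <;> rw [e] at h1
  · rw [zpow_zero] at h1; exact absurd h1 hp1
  · rw [zpow_one, mul_inv_eq_iff_eq_mul] at h1; exact h1

theorem four_false : False := by
  classical
  haveI : Fact (Nat.Prime 2) := ⟨Nat.prime_two⟩
  obtain ⟨V, hV4, hVC, hsq, hVn, hVmem⟩ := h.four_group P hz hzP hC36 hk
  obtain ⟨t, htN, ht2, ht⟩ := h.four_inverter P hz hzP hk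
  set C := centralizer ({z} : Set G) with hC
  set M := normalizer ((zpowers z : Subgroup G) : Set G) with hM
  have htz := ht z hzP
  have hM72 : Nat.card M = 72 := by rw [hM, h.card_norm_zpowers hz htz, ← hC, hC36]
  have hCM : C ≤ M := by rw [hC, hM, ← cent_zpowers]; exact centralizer_le_normalizer _
  have hz1 : z ≠ 1 := fun e => by rw [e, orderOf_one] at hz; omega
  have hzzp : zpowers z ≤ C := zpowers_le.mpr (mem_cent.mpr (Commute.refl z))
  have hPC : (P : Subgroup G) ≤ C := h.le_cent_three P hzP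
  have hcube : ∀ p ∈ (P : Subgroup G), p ^ 9 = 1 := fun p hp => by
    have h1 := pow_card_eq_one' (x := (⟨p, hp⟩ : ↥(P : Subgroup G)))
    rw [h.card_three P] at h1
    exact congrArg Subtype.val h1
  have hMconj : ∀ m ∈ M, ∀ a ∈ V, m * a * m⁻¹ ∈ V := by
    intro m hm a ha
    refine hVmem _ 2 (mem_cent.mpr ?_) (by norm_num)
      (by rw [pow_two, conj_mul, hsq a ha, mul_one, mul_inv_cancel])
    have h1 : Commute (m * a * m⁻¹) (m * z * m⁻¹) :=
      (mem_cent.mp (hVC ha)).map (MulAut.conj m)
    rcases zpowers_conj_mem hz hm with e | e <;> rw [e] at h1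
    · exact h1
    · exact Commute.inv_right_iff.mp h1
  -- every element of `P` off the line of `z` moves the four-group
  have hmove : ∀ a ∈ V, a ≠ 1 → ∃ p ∈ (P : Subgroup G), ¬ Commute p a := by
    intro a ha ha1
    by_contra hc
    push_neg at hc
    exact h.four_not_inv P hz hzP hk P (orderOf_eq_prime (by rw [pow_two, hsq a ha]) ha1)
      (mem_centralizer_iff.mpr fun p hp => hc p hp)
  obtain ⟨v, hvV, hv1⟩ : ∃ v ∈ V, v ≠ 1 := by
    by_contra hc
    push_neg at hc
    rw [(eq_bot_iff_forall V).mpr hc, card_bot] at hV4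
    omega
  set D := C ⊓ centralizer (V : Set G) with hD
  have hVc : ∀ a ∈ V, ∀ b ∈ V, Commute a b := by
    intro a ha b hb
    have h1 := hsq _ (mul_mem ha hb)
    show a * b = b * a
    have : b * a = (a * b)⁻¹ := by
      rw [mul_inv_rev, inv_eq_of_mul_eq_one_right (hsq a ha), inv_eq_of_mul_eq_one_right (hsq b hb)]
    rw [this]
    exact (inv_eq_of_mul_eq_one_right h1).symm
  have hD12 : Nat.card D = 12 := by
    have h4 : 4 ∣ Nat.card D := hV4 ▸ card_dvd_of_le (le_inf hVC fun a ha =>
      mem_centralizer_iff.mpr fun b hb => (hVc b hb a ha).eq)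
    have h3 : 3 ∣ Nat.card D := by
      have hle : zpowers z ≤ D := le_inf hzzp (zpowers_le.mpr (mem_centralizer_iff.mpr
        fun b hb => (mem_cent.mp (hVC hb)).eq))
      have := card_dvd_of_le hle
      rwa [Nat.card_zpowers, hz] at this
    have h36 : Nat.card D ∣ 36 := hC36 ▸ card_dvd_of_le inf_le_left
    have hne : Nat.card D ≠ 36 := fun e => by
      have hDC : D = C := eq_of_le_of_card_ge inf_le_left (by rw [e, hC36])
      obtain ⟨p, hp, hpv⟩ := hmove v hvV hv1
      have : p ∈ D := hDC ▸ hPC hp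
      exact hpv (mem_centralizer_iff.mp this.2 v hvV).symm
    obtain ⟨i, hi⟩ := Nat.Coprime.mul_dvd_of_dvd_of_dvd (m := 4) (n := 3) (by norm_num) h4 h3
    have := Nat.le_of_dvd (by norm_num) h36
    have : i ≤ 3 := by omega
    interval_cases i
    · have := Nat.card_pos (α := ↥D); omega
    · omega
    · rw [hi] at h36; norm_num at h36
    · omega
  -- no element inverting `z` centralises `V`
  have hfixall : ∀ m ∈ M, (∀ a ∈ V, Commute m a) → m ∈ C := by
    intro m hm hma
    rcases zpowers_conj_mem hz hm with e | e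
    · exact mem_cent.mpr (mul_inv_eq_iff_eq_mul.mp e)
    exfalso
    set c := t * m with hc
    have hcC : c ∈ C := mem_cent.mpr (mul_inv_eq_iff_eq_mul.mp (by
      calc c * z * c⁻¹ = t * (m * z * m⁻¹) * t⁻¹ := by rw [hc]; group
        _ = z := by rw [e, ← conj_inv, htz, inv_inv]))
    have hact : ∀ a ∈ V, c * a * c⁻¹ = t * a * t⁻¹ := fun a ha =>
      calc c * a * c⁻¹ = t * (m * a * m⁻¹) * t⁻¹ := by rw [hc]; group
        _ = t * a * t⁻¹ := by rw [(hma a ha).eq, mul_inv_cancel_right]
    have htt : t * t = 1 := by rw [← pow_two, ← ht2, pow_orderOf_eq_one]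
    have hDn : (D.subgroupOf C).Normal := ⟨fun d hd g => by
      rw [mem_subgroupOf] at hd ⊢
      refine ⟨(g * d * g⁻¹).2, mem_centralizer_iff.mpr fun a ha => ?_⟩
      have h1 : (g : G)⁻¹ * a * g ∈ V := by
        have := hVn (g : G)⁻¹ (inv_mem g.2) a ha; rwa [inv_inv] at this
      have h2 := mem_centralizer_iff.mp hd.2 _ h1
      show a * ((g : G) * d * (g : G)⁻¹) = (g : G) * d * (g : G)⁻¹ * a
      calc a * ((g : G) * d * (g : G)⁻¹) = g * (((g : G)⁻¹ * a * g) * d) * (g : G)⁻¹ := by group
        _ = g * (d * ((g : G)⁻¹ * a * g)) * (g : G)⁻¹ := by rw [h2]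
        _ = (g : G) * d * (g : G)⁻¹ * a := by group⟩
    have hidx : (D.subgroupOf C).index = 3 := by
      have h1 := (D.subgroupOf C).card_mul_index
      rw [Nat.card_congr (subgroupOfEquivOfLe (inf_le_left : D ≤ C)).toEquiv, hD12, hC36] at h1
      omega
    have hc3 : c ^ 3 ∈ D := by
      have := (D.subgroupOf C).pow_index_mem (⟨c, hcC⟩ : ↥C)
      rw [hidx, mem_subgroupOf] at this
      exact this
    have htV : ∀ a ∈ V, Commute t a := by
      intro a ha
      have hta : t * a * t⁻¹ ∈ V := by rw [← hact a ha]; exact hVn c hcC a ha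
      have hc2 : Commute (c * c) a := mul_inv_eq_iff_eq_mul.mp (by
        calc (c * c) * a * (c * c)⁻¹ = c * (c * a * c⁻¹) * c⁻¹ := by group
          _ = t * (t * a * t⁻¹) * t⁻¹ := by rw [hact a ha, hact _ hta]
          _ = (t * t) * a * (t * t)⁻¹ := by group
          _ = a := by rw [htt, one_mul, inv_one, mul_one])
      have hc1 : Commute c a := by
        have : c = c ^ 3 * (c * c)⁻¹ := by simp only [pow_succ, pow_zero]; group
        rw [this]
        exact (show Commute (c ^ 3) a from (mem_centralizer_iff.mp hc3.2 a ha).symm).mul_left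
          hc2.inv_left
      refine mul_inv_eq_iff_eq_mul.mp ?_
      rw [← hact a ha, hc1.eq, mul_inv_cancel_right]
    obtain ⟨p, hp, hpv⟩ := hmove v hvV hv1
    apply hpv
    have hu : t * (p * v * p⁻¹) * t⁻¹ = p * v * p⁻¹ :=
      mul_inv_eq_iff_eq_mul.mpr (htV _ (hVn p (hPC hp) v hvV))
    have htv : t * v * t⁻¹ = v := mul_inv_eq_iff_eq_mul.mpr (htV v hvV)
    have h1 : p⁻¹ * v * p = p * v * p⁻¹ := by
      rw [← hu, ← conj_mul, ← conj_mul, ← conj_inv, ht p hp, htv, inv_inv]
    have h2 : Commute (p * p) v := mul_inv_eq_iff_eq_mul.mp (by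
      calc (p * p) * v * (p * p)⁻¹ = p * (p * v * p⁻¹) * p⁻¹ := by group
        _ = v := by rw [← h1]; group)
    have h3 : p = (p * p) ^ 5 := by
      rw [← pow_two, ← pow_mul, show 2 * 5 = 9 + 1 by norm_num, pow_succ, hcube p hp, one_mul]
    rw [h3]
    exact h2.pow_left 5
  -- the centraliser of `v`
  have hv2 : orderOf v = 2 := orderOf_eq_prime (by rw [pow_two, hsq v hvV]) hv1
  set Cv := centralizer ({v} : Set G) with hCv
  have hvz : Commute v z := mem_cent.mp (hVC hvV)
  have h9 : ¬ 9 ∣ Nat.card Cv := by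
    intro hd
    obtain ⟨Q, hQ⟩ := Sylow.exists_subgroup_card_pow_prime 3 (n := 2) (G := ↥Cv)
      (by simpa using hd)
    have hQ' : Nat.card ↥(Q.map Cv.subtype) = 3 ^ 2 :=
      (card_map_of_injective Cv.subtype_injective).trans hQ
    obtain ⟨R, hR⟩ := (IsPGroup.of_card hQ').exists_le_sylow
    have he := eq_of_le_of_card_ge hR (by rw [h.card_three R, hQ']; norm_num)
    refine h.four_not_inv P hz hzP hk R hv2 ?_
    rw [← he, mem_centralizer_iff]
    rintro _ ⟨b, -, rfl⟩
    exact mem_cent.mp b.2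
  have hrange : (Set.range fun n : M => (n : G) * v * (n : G)⁻¹).ncard ≤ 3 := by
    have hsub : (Set.range fun n : M => (n : G) * v * (n : G)⁻¹) ⊆ (V : Set G) \ {1} := by
      rintro _ ⟨n, rfl⟩
      exact ⟨hMconj n n.2 v hvV, fun e => hv1 (conj_eq_one_iff.mp e)⟩
    have h1 := Set.ncard_le_ncard hsub (Set.toFinite _)
    rw [Set.ncard_sdiff_singleton_of_mem (one_mem V), ← Nat.card_coe_set_eq (V : Set G),
      SetLike.coe_sort_coe, hV4] at h1
    exact h1
  have hW : Nat.card ↥(M ⊓ Cv) = 24 := by
    have h1 : Nat.card ↥(M ⊓ Cv) * _ = Nat.card M := stab_mul_range M v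
    rw [hM72] at h1
    have hr3 : Nat.card ↥(Set.range fun n : M => (n : G) * v * (n : G)⁻¹) ≤ 3 := by
      rw [Nat.card_coe_set_eq]; exact hrange
    have hdvd : Nat.card ↥(M ⊓ Cv) ∣ Nat.card Cv := card_dvd_of_le inf_le_right
    by_contra hne
    apply h9
    refine Nat.dvd_trans ?_ hdvd
    interval_cases Nat.card ↥(Set.range fun n : M => (n : G) * v * (n : G)⁻¹) <;> omega
  obtain ⟨m, hm⟩ : 24 ∣ Nat.card Cv := hW ▸ card_dvd_of_le inf_le_right
  have h560 := h.cent_le hv1
  rw [← hCv, hm] at h560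
  have hm23 : m ≤ 23 := by omega
  have hmdvd : m ∣ 210 := by
    have h1 : Nat.card Cv ∣ 5040 := h.card ▸ card_subgroup_dvd_card Cv
    rw [hm] at h1
    exact Nat.dvd_of_mul_dvd_mul_left (by norm_num) (show 24 * m ∣ 24 * 210 from h1)
  have hm3 : m % 3 = 1 := by
    have hzC : z ∈ Cv := mem_cent.mpr hvz.symm
    obtain ⟨S, hzS⟩ := exists_sylow_mem (G := ↥Cv) (p := 3) (z := ⟨z, hzC⟩)
      (by rw [orderOf_mk]; exact hz)
    have hSc : Nat.card ↥(S : Subgroup ↥Cv) = 3 := by
      rw [SmallGroups.card_sylow_eq (a := 1) (m := 8 * m) (by rw [hm]; ring) ?_ S, pow_one]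
      intro h3
      apply h9
      obtain ⟨i, hi⟩ := h3
      exact ⟨i, by omega⟩
    have hzCv : zpowers z ≤ Cv := zpowers_le.mpr hzC
    have hSe : (zpowers z).subgroupOf Cv = (S : Subgroup ↥Cv) := by
      refine eq_of_le_of_card_ge ?_ ?_
      · intro b hb
        rw [mem_subgroupOf, mem_zpowers_iff] at hb
        obtain ⟨i, hi⟩ := hb
        have : (⟨z, hzC⟩ : ↥Cv) ^ i = b := Subtype.ext (by simpa using hi)
        exact this ▸ zpow_mem hzS i
      · rw [hSc, Nat.card_congr (subgroupOfEquivOfLe hzCv).toEquiv, Nat.card_zpowers, hz]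
    have h5 := (M.subgroupOf Cv).card_mul_index
    rw [← inf_subgroupOf_right, Nat.card_congr (subgroupOfEquivOfLe inf_le_right).toEquiv, hW,
      inf_subgroupOf_right, hm] at h5
    have h3 := card_sylow_modEq_one 3 ↥Cv
    rw [card_sylow_index S, ← hSe, ← subgroupOf_normalizer_eq hzCv, ← hM] at h3
    unfold Nat.ModEq at h3
    omega
  have hcases : m = 1 ∨ m = 7 ∨ m = 10 := by
    have hd : m ∈ Nat.divisors 210 := Nat.mem_divisors.mpr ⟨hmdvd, by norm_num⟩
    rw [show Nat.divisors 210 = {1, 2, 3, 5, 6, 7, 10, 14, 15, 21, 30, 35, 42, 70, 105, 210} by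
      decide +kernel] at hd
    simp only [Finset.mem_insert, Finset.mem_singleton] at hd
    omega
  rcases hcases with rfl | rfl | rfl
  · -- order `24`: an odd number of fixed points among seventy
    rw [mul_one] at hm
    have hCvM : Cv ≤ M :=
      (eq_of_le_of_card_ge (inf_le_right : M ⊓ Cv ≤ Cv) (by rw [hW, hm])) ▸ inf_le_left
    obtain ⟨S, hS⟩ := Sylow.exists_subgroup_card_pow_prime 2 (n := 3) (G := ↥Cv)
      (by rw [hm]; norm_num)
    set F := MulAction.fixedBy (G ⧸ M) v
    let act : MulAction ↥S F :=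
      { smul := fun u a => ⟨((u : ↥Cv) : G) • a.1, by
          rw [MulAction.mem_fixedBy]
          show v • ((u : ↥Cv) : G) • a.1 = ((u : ↥Cv) : G) • a.1
          rw [← mul_smul, ← (mem_cent.mp (u : ↥Cv).2).eq, mul_smul, a.2]⟩
        one_smul := fun a => Subtype.ext (one_smul _ a.1)
        mul_smul := fun u w a => Subtype.ext (mul_smul _ _ a.1) }
    have hmod := (IsPGroup.of_card (p := 2) hS).card_modEq_card_fixedPoints F
    have hbase : ((1 : G) : G ⧸ M) ∈ F := by
      rw [SmallGroups.mk_mem_fixedBy_iff, inv_one, one_mul, mul_one]; exact hCM (hVC hvV)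
    have hone : Nat.card (MulAction.fixedPoints ↥S F) = 1 := by
      rw [Nat.card_eq_one_iff_exists]
      refine ⟨⟨⟨_, hbase⟩, fun u => Subtype.ext ?_⟩, ?_⟩
      · show ((u : ↥Cv) : G) • ((1 : G) : G ⧸ M) = ((1 : G) : G ⧸ M)
        rw [MulAction.Quotient.smul_mk, QuotientGroup.eq, smul_eq_mul, mul_one, mul_one]
        exact inv_mem (hCvM (u : ↥Cv).2)
      rintro ⟨⟨q, hqF⟩, hq⟩
      induction q using QuotientGroup.induction_on with
      | _ g =>
        refine Subtype.ext (Subtype.ext ?_)
        show (g : G ⧸ M) = ((1 : G) : G ⧸ M)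
        rw [QuotientGroup.eq, mul_one, inv_mem_iff]
        rw [SmallGroups.mk_mem_fixedBy_iff] at hqF
        set v' := g⁻¹ * v * g with hv'
        by_cases hvC : v' ∈ C
        · -- then `v` centralises the conjugate of `z`
          have h1 : Commute v (g * z * g⁻¹) := by
            have h2 : Commute (g * v' * g⁻¹) (g * z * g⁻¹) := (mem_cent.mp hvC).map (MulAut.conj g)
            have h3 : g * v' * g⁻¹ = v := by rw [hv']; group
            rwa [h3] at h2
          have hord : orderOf (g * z * g⁻¹) = 3 := ((MulAut.conj g).orderOf_eq z).trans hz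
          have hwC : g * z * g⁻¹ ∈ C :=
            card_cent_eq_of_index_two hCM (by rw [hM72, hC36]) (hCvM (mem_cent.mpr h1.symm))
              (by rw [hord]; decide)
          have hmem : g * z * g⁻¹ ∈ zpowers z := by
            by_contra hne
            obtain ⟨Q, hQ⟩ := h.two_lines hz (hord ▸ pow_orderOf_eq_one _) (mem_cent.mp hwC).symm hne
            refine h.four_not_inv P hz hzP hk Q hv2 ?_
            rw [← hQ, centralizer_closure, mem_centralizer_iff]
            rintro y (rfl | rfl)
            · exact hvz.eq.symm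
            · exact h1.eq.symm
          refine mem_normalizer_zpowers ?_
          rcases mem_zpowers_three hz hmem with e | e | e
          · exact absurd (conj_eq_one_iff.mp e) hz1
          · exact Or.inl e
          · exact Or.inr e
        · exfalso
          apply hvC
          refine hfixall v' hqF fun a ha => ?_
          -- the conjugate of `S` lies in `M` and meets `C` in `V`
          set S' : Subgroup G := (S.map Cv.subtype).map (MulAut.conj g⁻¹).toMonoidHom with hS'
          have hS'M : S' ≤ M := by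
            rintro _ ⟨b, ⟨u, hu, rfl⟩, rfl⟩
            have h1 : (u : G) • (g : G ⧸ M) = (g : G ⧸ M) := congrArg Subtype.val (hq ⟨u, hu⟩)
            rw [MulAction.Quotient.smul_mk, QuotientGroup.eq, smul_eq_mul] at h1
            show g⁻¹ * (u : G) * g⁻¹⁻¹ ∈ M
            have h2 := inv_mem h1
            rwa [mul_inv_rev, inv_inv, ← mul_assoc, ← inv_inv g, inv_inv g⁻¹] at h2
          have hS'c : Nat.card S' = 8 := by
            rw [hS', card_map_of_injective (MulAut.conj g⁻¹).injective,
              card_map_of_injective Cv.subtype_injective, hS]; norm_num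
          have hleV : S' ⊓ C ≤ V := fun b hb => by
            refine hVmem b 8 hb.2 (by norm_num) ?_
            have h1 := pow_card_eq_one' (x := (⟨b, hb.1⟩ : ↥S'))
            rw [hS'c] at h1
            exact congrArg Subtype.val h1
          have hidx : (C.subgroupOf M).index = 2 := by
            have h1 := (C.subgroupOf M).card_mul_index
            rw [Nat.card_congr (subgroupOfEquivOfLe hCM).toEquiv, hC36, hM72] at h1
            omega
          have h4le : 4 ≤ Nat.card ↥(S' ⊓ C) := by
            have h1 := (C.subgroupOf S').card_mul_index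
            rw [← inf_subgroupOf_left, Nat.card_congr (subgroupOfEquivOfLe inf_le_left).toEquiv,
              hS'c] at h1
            have h2 : ((S' ⊓ C).subgroupOf S').index ≤ 2 := by
              rw [inf_subgroupOf_left]
              calc C.relIndex S' ≤ C.relIndex M :=
                    relIndex_le_of_le_right hS'M (by rw [relIndex, hidx]; norm_num)
                _ = 2 := hidx
            nlinarith
          have hVS : V ≤ S' :=
            (eq_of_le_of_card_ge hleV (by rw [hV4]; exact h4le)).ge.trans inf_le_left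
          obtain ⟨_, ⟨u, hu, rfl⟩, hua⟩ := hVS ha
          rw [← hua]
          show Commute v' (g⁻¹ * (u : G) * g⁻¹⁻¹)
          have h2 : Commute (g⁻¹ * v * g⁻¹⁻¹) (g⁻¹ * (u : G) * g⁻¹⁻¹) :=
            (mem_cent.mp u.2).symm.map (MulAut.conj g⁻¹)
          rwa [inv_inv] at h2 ⊢
    rw [hone] at hmod
    have h70 : Nat.card (G ⧸ M) = 70 := by
      have h1 := M.card_mul_index
      rw [hM72, h.card, index_eq_card] at h1
      omega
    have h2 := SmallGroups.card_fixedBy_modEq_card (q := 2) (α := G ⧸ M) (x := v) (i := 1)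
      (by rw [pow_one, pow_two, hsq v hvV])
    rw [h70, show MulAction.fixedBy (G ⧸ M) v = F from rfl] at h2
    unfold Nat.ModEq at h2 hmod
    omega
  · -- order `168`
    haveI : Fact (Nat.Prime 7) := ⟨by norm_num⟩
    obtain ⟨x, hx, hx7⟩ := exists_mem_orderOf Cv 7 (by rw [hm]; norm_num)
    obtain ⟨k, n, hk42, hk7, hn, hkn, hdiv⟩ := h.count_seven hx7 hx
    have hk2 : 2 ∣ k := hv2 ▸ hdiv v (mem_cent.mpr (Commute.refl v)) (mem_cent.mp hx).symm
    rw [hm] at hkn
    have hkle := Nat.le_of_dvd (by norm_num) hk42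
    obtain ⟨i, hi⟩ := Nat.Coprime.mul_dvd_of_dvd_of_dvd (m := 2) (n := 7) (by norm_num) hk2 hk7
    subst hi
    have : i ≤ 3 := by omega
    interval_cases i <;> omega
  · -- order `240`: all conjugates of `v` would commute
    obtain ⟨p, hp, hpv⟩ := hmove v hvV hv1
    set v' := p * v * p⁻¹ with hv'
    have hv'V : v' ∈ V := hVn p (hPC hp) v hvV
    have hv'1 : v' ≠ 1 := fun e => hv1 (conj_eq_one_iff.mp e)
    have hv'v : v' ≠ v := fun e => hpv (mul_inv_eq_iff_eq_mul.mp e)
    set CV := centralizer (V : Set G) with hCV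
    have hVeq : ∀ a ∈ V, a = 1 ∨ a = v ∨ a = v' ∨ a = v * v' := by
      intro a ha
      have hsub : ({1, v, v', v * v'} : Set G) ⊆ V := by
        rintro b (rfl | rfl | rfl | rfl)
        · exact one_mem V
        · exact hvV
        · exact hv'V
        · exact mul_mem hvV hv'V
      have hc4 : ({1, v, v', v * v'} : Set G).ncard = 4 := by
        have h1 : v * v' ≠ 1 := fun e => hv'v (by
          rw [← inv_eq_of_mul_eq_one_right e, inv_eq_of_mul_eq_one_right (hsq v hvV)])
        have h2 : v ≠ v * v' := fun e => hv'1 (mul_eq_left.mp e.symm)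
        have h3 : v' ≠ v * v' := fun e => hv1 (mul_eq_right.mp e.symm)
        rw [Set.ncard_insert_of_notMem (by simp [Ne.symm hv1, Ne.symm hv'1, Ne.symm h1]),
          Set.ncard_insert_of_notMem (by simp [Ne.symm hv'v, h2]),
          Set.ncard_insert_of_notMem (by simp [h3]), Set.ncard_singleton]
      have heq := Set.eq_of_subset_of_ncard_le hsub
        (by rw [hc4, ← Nat.card_coe_set_eq, SetLike.coe_sort_coe, hV4]) (Set.toFinite _)
      rw [← SetLike.mem_coe, ← heq] at ha
      simpa using ha
    have hCVle : CV ≤ Cv := fun c hc => mem_cent.mpr (mem_centralizer_iff.mp hc v hvV).symm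
    have hCVeq : Cv ⊓ centralizer ({v'} : Set G) = CV := by
      refine le_antisymm ?_ (le_inf hCVle fun c hc =>
        mem_cent.mpr (mem_centralizer_iff.mp hc v' hv'V).symm)
      intro c hc
      rw [hCV, mem_centralizer_iff]
      intro a ha
      have h1 : Commute c v := mem_cent.mp hc.1
      have h2 : Commute c v' := mem_cent.mp hc.2
      rcases hVeq a ha with rfl | rfl | rfl | rfl
      · exact (Commute.one_right c).eq.symm
      · exact h1.eq.symm
      · exact h2.eq.symm
      · exact (h1.mul_right h2).eq.symm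
    have hzCV : z ∈ CV := mem_centralizer_iff.mpr fun a ha => (mem_cent.mp (hVC ha)).eq
    have hMCV : M ⊓ CV = D := by
      refine le_antisymm ?_ (le_inf (inf_le_left.trans hCM) inf_le_right)
      intro c hc
      exact ⟨hfixall c hc.1 fun a ha => (mem_centralizer_iff.mp hc.2 a ha).symm, hc.2⟩
    obtain ⟨i, hi⟩ : 12 ∣ Nat.card CV := hD12 ▸ card_dvd_of_le inf_le_right
    have hi20 : i ∣ 20 := by
      have h1 := card_dvd_of_le hCVle
      rw [hm, hi] at h1
      exact Nat.dvd_of_mul_dvd_mul_left (by norm_num) (show 12 * i ∣ 12 * 20 from h1)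
    have hi3 : i % 3 = 1 := by
      obtain ⟨S, hzS⟩ := exists_sylow_mem (G := ↥CV) (p := 3) (z := ⟨z, hzCV⟩)
        (by rw [orderOf_mk]; exact hz)
      have hSc : Nat.card ↥(S : Subgroup ↥CV) = 3 := by
        rw [SmallGroups.card_sylow_eq (a := 1) (m := 4 * i) (by rw [hi]; ring) ?_ S, pow_one]
        intro h3
        have : 3 ∣ i := ((Nat.Coprime.dvd_of_dvd_mul_left (by norm_num) h3))
        have := this.trans hi20
        norm_num at this
      have hzle : zpowers z ≤ CV := zpowers_le.mpr hzCV
      have hSe : (zpowers z).subgroupOf CV = (S : Subgroup ↥CV) := by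
        refine eq_of_le_of_card_ge ?_ ?_
        · intro b hb
          rw [mem_subgroupOf, mem_zpowers_iff] at hb
          obtain ⟨j, hj⟩ := hb
          have : (⟨z, hzCV⟩ : ↥CV) ^ j = b := Subtype.ext (by simpa using hj)
          exact this ▸ zpow_mem hzS j
        · rw [hSc, Nat.card_congr (subgroupOfEquivOfLe hzle).toEquiv, Nat.card_zpowers, hz]
      have h5 := (M.subgroupOf CV).card_mul_index
      rw [← inf_subgroupOf_right, Nat.card_congr (subgroupOfEquivOfLe inf_le_right).toEquiv, hMCV,
        hD12, ← hMCV, inf_subgroupOf_right, hi] at h5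
      have h3 := card_sylow_modEq_one 3 ↥CV
      rw [card_sylow_index S, ← hSe, ← subgroupOf_normalizer_eq hzle, ← hM] at h3
      unfold Nat.ModEq at h3
      omega
    -- the normaliser of `V` is too big unless `C(V)` has order `12`
    have hNV : 72 * i ∣ Nat.card ↥(normalizer (V : Set G)) := by
      set NV := normalizer (V : Set G) with hNVdef
      have hMN : M ≤ NV := by
        intro c hc
        rw [hNVdef, mem_normalizer_iff_map_conj_eq]
        refine eq_of_le_of_card_ge ?_ (card_map_of_injective (MulAut.conj c).injective).ge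
        rintro _ ⟨a, ha, rfl⟩
        exact hMconj c hc a ha
      set φ := V.normalizerMonoidHom
      have hker : φ.ker = CV.subgroupOf NV := normalizerMonoidHom_ker V
      have hcard : Nat.card φ.range * Nat.card φ.ker = Nat.card NV := by
        rw [← Nat.card_congr (QuotientGroup.quotientKerEquivRange φ).toEquiv, ← index_eq_card,
          mul_comm, card_mul_index]
      have hkc : Nat.card φ.ker = 12 * i := by
        rw [hker, Nat.card_congr (subgroupOfEquivOfLe
          (centralizer_le_normalizer _ : CV ≤ NV)).toEquiv, hi]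
      set ψ := φ.comp (inclusion hMN)
      have hψk : ψ.ker = (M ⊓ CV).subgroupOf M := by
        ext c
        rw [MonoidHom.mem_ker, mem_subgroupOf]
        show φ (inclusion hMN c) = 1 ↔ _
        rw [← MonoidHom.mem_ker, hker, mem_subgroupOf]
        exact ⟨fun h1 => ⟨c.2, h1⟩, fun h1 => h1.2⟩
      have hψc : Nat.card ψ.range = 6 := by
        have h1 : Nat.card ψ.range * Nat.card ψ.ker = Nat.card M := by
          rw [← Nat.card_congr (QuotientGroup.quotientKerEquivRange ψ).toEquiv, ← index_eq_card,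
            mul_comm, card_mul_index]
        rw [hψk, Nat.card_congr (subgroupOfEquivOfLe inf_le_left).toEquiv, hMCV, hD12, hM72] at h1
        omega
      have hrle : ψ.range ≤ φ.range := by
        rintro _ ⟨c, rfl⟩
        exact ⟨inclusion hMN c, rfl⟩
      obtain ⟨j, hj⟩ := hψc ▸ card_dvd_of_le hrle
      exact ⟨j, by rw [← hcard, hkc, hj]; ring⟩
    have hi1 : i = 1 := by
      have hVT : V ≠ ⊤ := fun e => by rw [e, card_top, h.card] at hV4; omega
      have hVB : V ≠ ⊥ := fun e => by rw [e, card_bot] at hV4; omega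
      have hle := h.normalizer_le hVB hVT
      have hd : Nat.card ↥(normalizer (V : Set G)) ∣ 5040 :=
        h.card ▸ card_subgroup_dvd_card _
      have hNle := Nat.le_of_dvd Nat.card_pos hNV
      have hi7 : i ≤ 7 := by omega
      have h72 := hNV.trans hd
      interval_cases i <;> first | rfl | omega | (norm_num at h72) | (norm_num at hi20)
    rw [hi1, mul_one] at hi
    -- twenty conjugates of `v'` under `C(v)`
    have hclass : Nat.card {g : G // IsConj v g} = 21 := by
      have h1 := SmallGroups.card_conj_mul_centralizer v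
      rw [← hCv, hm, h.card] at h1
      omega
    have hr20 : Nat.card ↥(Set.range fun n : Cv => (n : G) * v' * (n : G)⁻¹) = 20 := by
      have h1 := stab_mul_range Cv v'
      rw [hCVeq, hi, hm] at h1
      omega
    have hconjv : IsConj v v' := isConj_iff.mpr ⟨p, rfl⟩
    have heq : (Set.range fun n : Cv => (n : G) * v' * (n : G)⁻¹) =
        {g : G | IsConj v g} \ {v} := by
      apply Set.eq_of_subset_of_ncard_le
      · rintro _ ⟨n, rfl⟩
        refine ⟨hconjv.trans (isConj_iff.mpr ⟨n, rfl⟩), fun e => hv'v ?_⟩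
        have e' : (n : G) * v' * (n : G)⁻¹ = v := e
        have hnv : Commute (n : G) v := mem_cent.mp n.2
        have h2 : (n : G) * v * (n : G)⁻¹ = v := mul_inv_eq_iff_eq_mul.mpr hnv.eq
        exact mul_left_cancel (mul_right_cancel (e'.trans h2.symm))
      · rw [Set.ncard_sdiff_singleton_of_mem (show v ∈ {g : G | IsConj v g} from IsConj.refl v),
          ← Nat.card_coe_set_eq, ← Nat.card_coe_set_eq, hr20]
        show Nat.card {g : G // IsConj v g} - 1 ≤ 20
        omega
      · exact Set.toFinite _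
    have hvall : ∀ g : G, IsConj v g → Commute v g := by
      intro g hg
      by_cases hgv : g = v
      · rw [hgv]
      have hmem : g ∈ {g : G | IsConj v g} \ {v} := ⟨hg, hgv⟩
      rw [← heq] at hmem
      obtain ⟨n, rfl⟩ := hmem
      have h1 : Commute ((n : G) * v * (n : G)⁻¹) ((n : G) * v' * (n : G)⁻¹) :=
        (hVc v hvV v' hv'V).map (MulAut.conj (n : G))
      rwa [mul_inv_eq_iff_eq_mul.mpr (mem_cent.mp n.2).eq] at h1
    have hpair : ∀ a b : G, IsConj v a → IsConj v b → Commute a b := by
      intro a b ha hb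
      obtain ⟨c, rfl⟩ := isConj_iff.mp ha
      have h1 : Commute (c * v * c⁻¹) (c * (c⁻¹ * b * c) * c⁻¹) :=
        (hvall (c⁻¹ * b * c) (hb.trans (isConj_iff.mpr ⟨c⁻¹, by rw [inv_inv]⟩))).map (MulAut.conj c)
      have h3 : c * (c⁻¹ * b * c) * c⁻¹ = b := by group
      rwa [h3] at h1
    set J := Subgroup.normalClosure ({v} : Set G) with hJ
    haveI : IsMulCommutative J := by
      refine isMulCommutative_closure fun a ha b hb => ?_
      simp only [Group.mem_conjugatesOfSet_iff, Set.mem_singleton_iff, exists_eq_left] at ha hb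
      exact hpair a b ha hb
    rcases (Subgroup.normalClosure_normal (s := ({v} : Set G))).eq_bot_or_eq_top with e | e
    · have : v ∈ J := Subgroup.subset_normalClosure rfl
      rw [hJ, e, mem_bot] at this
      exact hv1 this
    · apply h.ne
      refine isMulCommutative_iff.mpr fun a b => ?_
      exact congrArg Subtype.val (isMulCommutative_iff.mp ‹IsMulCommutative J›
        ⟨a, by rw [hJ, e]; trivial⟩ ⟨b, by rw [hJ, e]; trivial⟩)

end Hyp

end Cfsg.Agent.BC87.N5040
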