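import Cfsg.Agent.BC87.N5040.Three

/-!
# No element of order `15` in a simple group of order `5040`

The fourteen conjugates of the extended centraliser would be permuted with a three-cycle,
which splits them into quadruples.
-/

set_option autoImplicit false

namespace Cfsg.Agent.BC87.N5040

open Subgroup
open Cfsg.Agent.BC87.A7 (mem_cent exists_mem_orderOf inner_count exists_sylow_mem card_sylow_index
  cent_zpowers stab_mul_range mem_zpowers_three fixed_eq_one)

variable {G : Type*} [Group G] [Finite G]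

theorem zpowers_conj_mem {z m : G} (hz : orderOf z = 3)
    (hm : m ∈ normalizer ((zpowers z : Subgroup G) : Set G)) :
    m * z * m⁻¹ = z ∨ m * z * m⁻¹ = z⁻¹ := by
  rcases mem_zpowers_three hz ((mem_normalizer_iff.mp hm z).mp (mem_zpowers z)) with e | e | e
  · rw [conj_eq_one_iff] at e; rw [e, orderOf_one] at hz; omega
  · exact Or.inl e
  · exact Or.inr e

theorem mem_normalizer_zpowers {z m : G} (h : m * z * m⁻¹ = z ∨ m * z * m⁻¹ = z⁻¹) :
    m ∈ normalizer ((zpowers z : Subgroup G) : Set G) := by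
  rw [mem_normalizer_iff_map_conj_eq, MonoidHom.map_zpowers]
  change zpowers (m * z * m⁻¹) = zpowers z
  rcases h with e | e <;> rw [e]
  exact zpowers_inv

namespace Hyp

variable [IsSimpleGroup G] (h : Hyp G) [Fact (Nat.Prime 3)]
include h

/-- If the stabiliser of index four acts nontrivially, the orbit is closed under inversion. -/
theorem real_eighteen (P : Sylow 3 G) {z : G} (hz : orderOf z = 3) (hzP : z ∈ (P : Subgroup G))
    (hN : Nat.card ↥(normalizer ((P : Subgroup G) : Set G)) = 72)
    (hk : Nat.card ↥(normalizer ((P : Subgroup G) : Set G) ⊓ centralizer ({z} : Set G)) = 18)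
    {s : G} (hs : s ∈ normalizer ((P : Subgroup G) : Set G) ⊓ centralizer ({z} : Set G))
    (hsP : s ∉ centralizer ((P : Subgroup G) : Set G)) :
    ∃ n ∈ normalizer ((P : Subgroup G) : Set G), n * z * n⁻¹ = z⁻¹ := by
  classical
  set N := normalizer ((P : Subgroup G) : Set G) with hNdef
  set K := N ⊓ centralizer ({z} : Set G) with hK
  have hz1 : z ≠ 1 := fun e => by rw [e, orderOf_one] at hz; omega
  have hcm : ∀ a ∈ (P : Subgroup G), ∀ b ∈ (P : Subgroup G), a * b = b * a := fun a ha b hb =>
    congrArg Subtype.val (isMulCommutative_iff.mp (h.comm_three P) ⟨a, ha⟩ ⟨b, hb⟩)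
  have hsN : s ∈ N := hs.1
  have hidx : ((P : Subgroup G).subgroupOf K).index = 2 := by
    have hle : (P : Subgroup G) ≤ K := le_inf le_normalizer (h.le_cent_three P hzP)
    have h1 := ((P : Subgroup G).subgroupOf K).card_mul_index
    rw [Nat.card_congr (subgroupOfEquivOfLe hle).toEquiv, hk, h.card_three P] at h1
    omega
  have hss : s * s ∈ (P : Subgroup G) := mul_self_mem_of_index_two hidx (⟨s, hs⟩ : ↥K)
  have htwice : ∀ a ∈ (P : Subgroup G), s * (s * a * s⁻¹) * s⁻¹ = a := fun a ha =>
    calc s * (s * a * s⁻¹) * s⁻¹ = (s * s) * a * (s * s)⁻¹ := by group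
      _ = a := by rw [hcm _ hss a ha, mul_inv_cancel_right]
  by_contra hno
  push_neg at hno
  set O := Set.range fun n : N => (n : G) * z * (n : G)⁻¹ with hO
  have hO4 : O.ncard = 4 := by
    have h1 : Nat.card K * Nat.card O = Nat.card N := stab_mul_range N z
    rw [hk, hN] at h1
    rw [← Nat.card_coe_set_eq]
    omega
  have hOP : ∀ a ∈ O, a ∈ (P : Subgroup G) := by
    rintro _ ⟨n, rfl⟩
    exact (mem_normalizer_iff.mp n.2 z).mp hzP
  have hOs : ∀ a ∈ O, s * a * s⁻¹ ∈ O := by
    rintro _ ⟨n, rfl⟩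
    exact ⟨⟨s * n, mul_mem hsN n.2⟩, by show s * n * z * (s * n)⁻¹ = _; group⟩
  have hzO : z ∈ O := ⟨1, by simp⟩
  have hsz : s * z * s⁻¹ = z := mul_inv_eq_iff_eq_mul.mpr (mem_cent.mp hs.2).eq
  let E : Subgroup G :=
    { carrier := {a | a ∈ (P : Subgroup G) ∧ s * a * s⁻¹ = a}
      one_mem' := ⟨one_mem _, by group⟩
      mul_mem' := fun {a b} ha hb => ⟨mul_mem ha.1 hb.1, by rw [← conj_mul, ha.2, hb.2]⟩
      inv_mem' := fun {a} ha => ⟨(P : Subgroup G).inv_mem ha.1, by rw [← conj_inv, ha.2]⟩ }
  have hEz : E = zpowers z := by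
    have hle : E ≤ (P : Subgroup G) := fun a ha => ha.1
    refine (eq_of_le_of_card_ge (zpowers_le.mpr (show z ∈ E from ⟨hzP, hsz⟩)) ?_).symm
    rw [Nat.card_zpowers, hz]
    have hd : Nat.card E ∣ 3 ^ 2 := by
      have := card_dvd_of_le hle
      rw [h.card_three P] at this
      exact this
    obtain ⟨i, hi, he⟩ := (Nat.dvd_prime_pow Nat.prime_three).mp hd
    by_contra hgt
    have hi2 : i = 2 := by
      rw [he] at hgt
      interval_cases i <;> norm_num at *
    have hEP : E = (P : Subgroup G) :=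
      eq_of_le_of_card_ge hle (by rw [h.card_three P, he, hi2]; norm_num)
    apply hsP
    rw [mem_centralizer_iff]
    intro a ha
    have ha' : a ∈ E := by rw [hEP]; exact ha
    exact (mul_inv_eq_iff_eq_mul.mp ha'.2).symm
  have hfix : ∀ a ∈ O, s * a * s⁻¹ = a → a = z := by
    intro a ha hsa
    have hmem : a ∈ zpowers z := hEz ▸ (show a ∈ E from ⟨hOP a ha, hsa⟩)
    obtain ⟨n, rfl⟩ := ha
    rcases mem_zpowers_three hz hmem with e | e | e
    · exact absurd (conj_eq_one_iff.mp e) hz1
    · exact e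
    · exact absurd e (hno n n.2)
  have hne : ∀ a ∈ O \ {z}, s * a * s⁻¹ ∈ O \ {z} ∧ s * a * s⁻¹ ≠ a := by
    rintro a ⟨ha, haz⟩
    refine ⟨⟨hOs a ha, fun e => haz ?_⟩, fun e => haz (hfix a ha e)⟩
    have e' : s * a * s⁻¹ = z := e
    rw [Set.mem_singleton_iff, ← htwice a (hOP a ha), e', hsz]
  have h3 : (O \ {z}).ncard = 3 := by
    rw [Set.ncard_sdiff_singleton_of_mem hzO, hO4]
  obtain ⟨a, b, c, hab, hac, hbc, heq⟩ := Set.ncard_eq_three.mp h3
  rw [heq] at hne
  have hin : ∀ u ∈ ({a, b, c} : Set G), u ∈ (P : Subgroup G) := fun u hu => by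
    have : u ∈ O \ {z} := by rw [heq]; exact hu
    exact hOP u this.1
  obtain ⟨ha1, ha2⟩ := hne a (by simp)
  obtain ⟨hb1, hb2⟩ := hne b (by simp)
  obtain ⟨hc1, hc2⟩ := hne c (by simp)
  have ea := htwice a (hin a (by simp))
  have eb := htwice b (hin b (by simp))
  have ec := htwice c (hin c (by simp))
  simp only [Set.mem_insert_iff, Set.mem_singleton_iff] at ha1 hb1 hc1
  rcases ha1 with e | e | e
  · exact ha2 e
  · rw [e] at ea
    rcases hc1 with e' | e' | e'
    · rw [e'] at ec; exact hbc (e.symm.trans ec)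
    · rw [e'] at ec; exact hac (ea.symm.trans ec)
    · exact hc2 e'
  · rw [e] at ea
    rcases hb1 with e' | e' | e'
    · rw [e'] at eb; exact hbc (eb.symm.trans e)
    · exact hb2 e'
    · rw [e'] at eb; exact hab (ea.symm.trans eb)

/-- Two independent commuting elements of order `3` generate a Sylow subgroup. -/
theorem two_lines {u v : G} (hu : orderOf u = 3) (hv : v ^ 3 = 1) (huv : Commute u v)
    (hne : v ∉ zpowers u) : ∃ Q : Sylow 3 G, closure ({u, v} : Set G) = (Q : Subgroup G) := by
  have hcc : ∀ y ∈ ({u, v} : Set G), ∀ z ∈ ({u, v} : Set G), y * z = z * y := by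
    intro y hy z hz
    rcases hy with rfl | rfl <;> rcases hz with rfl | rfl
    · rfl
    · exact huv.eq
    · exact huv.eq.symm
    · rfl
  set W := closure ({u, v} : Set G) with hW
  haveI : IsMulCommutative W := isMulCommutative_closure hcc
  have hpg : IsPGroup 3 W := by
    rintro ⟨w, hw⟩
    refine ⟨1, Subtype.ext ?_⟩
    show w ^ (3 : ℕ) ^ 1 = 1
    rw [pow_one]
    induction hw using Subgroup.closure_induction with
    | mem y hy =>
      rcases hy with rfl | rfl
      · exact hu ▸ pow_orderOf_eq_one _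
      · exact hv
    | one => exact one_pow 3
    | mul y z hy hz ihy ihz =>
      have : Commute y z :=
        congrArg Subtype.val (isMulCommutative_iff.mp ‹IsMulCommutative W› ⟨y, hy⟩ ⟨z, hz⟩)
      rw [this.mul_pow, ihy, ihz, one_mul]
    | inv y hy ihy => rw [inv_pow, ihy, inv_one]
  obtain ⟨Q, hQ⟩ := hpg.exists_le_sylow
  refine ⟨Q, eq_of_le_of_card_ge hQ ?_⟩
  rw [h.card_three Q]
  have hd : Nat.card W ∣ 3 ^ 2 := by
    have := card_dvd_of_le hQ
    rw [h.card_three Q] at this
    exact this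
  obtain ⟨i, hi, he⟩ := (Nat.dvd_prime_pow Nat.prime_three).mp hd
  by_contra hlt
  have hle : Nat.card W ≤ Nat.card ↥(zpowers u) := by
    rw [Nat.card_zpowers, hu, he]
    have : i ≠ 2 := fun e => hlt (by rw [he, e]; norm_num)
    interval_cases i <;> norm_num at *
  have hz := eq_of_le_of_card_ge (zpowers_le.mpr (subset_closure (Set.mem_insert u _))) hle
  exact hne (hz ▸ subset_closure (Set.mem_insert_of_mem u rfl))

/-- No element of order `5` commutes with one of order `3`. -/
theorem no_five_cent {z : G} (hz : orderOf z = 3) :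
    ¬ 5 ∣ Nat.card ↥(centralizer ({z} : Set G)) := by
  classical
  intro hd5
  obtain ⟨P, hzP⟩ := exists_sylow_mem hz
  obtain ⟨hN, hC180, hk, s, hs, hsP⟩ := h.five_cent P hz hzP hd5
  obtain ⟨r, hrN, hr⟩ := h.real_eighteen P hz hzP hN hk hs hsP
  set M := normalizer ((zpowers z : Subgroup G) : Set G) with hM
  set C := centralizer ({z} : Set G) with hC
  have hM360 : Nat.card M = 360 := by rw [hM, h.card_norm_zpowers hz hr, hC180]
  have hidx : M.index = 14 := by
    have h1 := M.card_mul_index
    rw [hM360, h.card] at h1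
    omega
  have hCM : C ≤ M := by rw [hC, hM, ← cent_zpowers]; exact centralizer_le_normalizer _
  have hMT : M ≠ ⊤ := fun e => by rw [e, index_top] at hidx; omega
  have hz1 : z ≠ 1 := fun e => by rw [e, orderOf_one] at hz; omega
  have hzz : z ≠ z⁻¹ := fun e => by
    have h2 : z ^ 2 = 1 := by rw [pow_two, ← eq_inv_iff_mul_eq_one]; exact e
    have := orderOf_dvd_of_pow_eq_one h2
    rw [hz] at this; norm_num at this
  have := Fintype.ofFinite (G ⧸ M)
  let za : G ⧸ M → G := fun q => q.out * z * q.out⁻¹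
  have hza : ∀ g : G, za (g : G ⧸ M) = g * z * g⁻¹ ∨ za (g : G ⧸ M) = (g * z * g⁻¹)⁻¹ := by
    intro g
    obtain ⟨⟨m, hm⟩, he⟩ := QuotientGroup.mk_out_eq_mul M g
    have e : za (g : G ⧸ M) = g * (m * z * m⁻¹) * g⁻¹ := by
      show (g : G ⧸ M).out * z * (g : G ⧸ M).out⁻¹ = _
      rw [he]; group
    rcases zpowers_conj_mem hz hm with e' | e' <;> rw [e, e']
    · exact Or.inl rfl
    · exact Or.inr conj_inv.symm
  -- fixed points are commuting pairs
  have hodd3 : ∀ w : G, orderOf w = 3 → w ∈ M → w ∈ C := fun w hw hwM =>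
    card_cent_eq_of_index_two hCM (by rw [hM360, hC180]) hwM (by rw [hw]; decide)
  have hfix : ∀ g k : G, (g * z * g⁻¹) • (k : G ⧸ M) = (k : G ⧸ M) ↔
      Commute (g * z * g⁻¹) (k * z * k⁻¹) := by
    intro g k
    rw [← MulAction.mem_fixedBy, SmallGroups.mk_mem_fixedBy_iff]
    constructor
    · intro hm
      have h3 : orderOf (k⁻¹ * (g * z * g⁻¹) * k) = 3 := by
        have h1 := (MulAut.conj k⁻¹).orderOf_eq (g * z * g⁻¹)
        rw [MulAut.conj_apply, inv_inv] at h1
        rw [h1]
        exact ((MulAut.conj g).orderOf_eq z).trans hz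
      have h2 : Commute (k * (k⁻¹ * (g * z * g⁻¹) * k) * k⁻¹) (k * z * k⁻¹) :=
        (mem_cent.mp (hodd3 _ h3 hm)).map (MulAut.conj k)
      have h4 : k * (k⁻¹ * (g * z * g⁻¹) * k) * k⁻¹ = g * z * g⁻¹ := by group
      rwa [h4] at h2
    · intro hc
      apply hCM
      refine mem_cent.mpr ?_
      have h2 : Commute (k⁻¹ * (g * z * g⁻¹) * k⁻¹⁻¹) (k⁻¹ * (k * z * k⁻¹) * k⁻¹⁻¹) :=
        hc.map (MulAut.conj k⁻¹)
      have h4 : k⁻¹ * (k * z * k⁻¹) * k⁻¹⁻¹ = z := by group
      rw [h4, inv_inv] at h2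
      exact h2
  let R : G ⧸ M → G ⧸ M → Prop := fun a b => za a • b ≠ b
  have hout : ∀ b : G ⧸ M, ((b.out : G) : G ⧸ M) = b := QuotientGroup.out_eq'
  have hRcomm : ∀ a b, R a b ↔ ¬ Commute (za a) (za b) := by
    intro a b
    show za a • b ≠ b ↔ _
    rw [not_iff_not]
    have h1 := hfix a.out b.out
    rwa [hout] at h1
  have hsymm : ∀ a b, R a b → R b a := fun a b hab => by
    rw [hRcomm] at hab ⊢; exact fun hc => hab hc.symm
  have hirr : ∀ a, ¬ R a a := fun a hab => ((hRcomm a a).mp hab) (Commute.refl _)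
  have hinvar : ∀ (g : G) (a b : G ⧸ M), R a b → R (g • a) (g • b) := by
    intro g a b hab
    rw [hRcomm] at hab ⊢
    intro hc
    apply hab
    have hga : ∀ q : G ⧸ M, za (g • q) = g * za q * g⁻¹ ∨ za (g • q) = (g * za q * g⁻¹)⁻¹ := by
      intro q
      have h1 := hza (g * q.out)
      have h2 : g * za q * g⁻¹ = g * q.out * z * (g * q.out)⁻¹ := by
        show g * (q.out * z * q.out⁻¹) * g⁻¹ = _; group
      have h3 : ((g * q.out : G) : G ⧸ M) = g • q := by
        conv_rhs => rw [← hout q]
        rfl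
      rwa [← h2, h3] at h1
    have h2 : Commute (g * za a * g⁻¹) (g * za b * g⁻¹) := by
      rcases hga a with e | e <;> rcases hga b with e' | e' <;> rw [e, e'] at hc
      · exact hc
      · exact Commute.inv_right_iff.mp hc
      · exact Commute.inv_left_iff.mp hc
      · exact Commute.inv_left_iff.mp (Commute.inv_right_iff.mp hc)
    have h3 : Commute (g⁻¹ * (g * za a * g⁻¹) * g⁻¹⁻¹) (g⁻¹ * (g * za b * g⁻¹) * g⁻¹⁻¹) :=
      h2.map (MulAut.conj g⁻¹)
    have h4 : ∀ w : G, g⁻¹ * (g * w * g⁻¹) * g⁻¹⁻¹ = w := fun w => by group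
    rwa [h4, h4] at h3
  -- the orbit of `z` under `N(P)`
  set N := normalizer ((P : Subgroup G) : Set G) with hNdef
  set O := Set.range fun n : N => (n : G) * z * (n : G)⁻¹ with hO
  have hO4 : O.ncard = 4 := by
    have h1 : Nat.card ↥(N ⊓ C) * Nat.card O = Nat.card N := stab_mul_range N z
    rw [hk, hN] at h1
    rw [← Nat.card_coe_set_eq]
    omega
  have hOinv : ∀ a ∈ O, a⁻¹ ∈ O := by
    rintro _ ⟨n, rfl⟩
    refine ⟨⟨n * r, mul_mem n.2 hrN⟩, ?_⟩
    show n * r * z * (n * r)⁻¹ = _
    rw [show (n : G) * r * z * ((n : G) * r)⁻¹ = n * (r * z * r⁻¹) * (n : G)⁻¹ by group, hr,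
      conj_inv]
  have hzO : z ∈ O := ⟨1, by simp⟩
  obtain ⟨w, hwO, hwz⟩ : ∃ w ∈ O, w ∉ zpowers z := by
    by_contra hc
    push_neg at hc
    have hsub : O ⊆ {z, z⁻¹} := by
      intro a ha
      rcases mem_zpowers_three hz (hc a ha) with e | e | e
      · obtain ⟨n, rfl⟩ := ha
        exact absurd (conj_eq_one_iff.mp e) hz1
      · exact Or.inl e
      · exact Or.inr e
    have h1 := Set.ncard_le_ncard hsub (Set.toFinite _)
    have h2 := Set.ncard_insert_le z ({z⁻¹} : Set G)
    rw [Set.ncard_singleton] at h2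
    omega
  have hwP : w ∈ (P : Subgroup G) := by
    obtain ⟨n, rfl⟩ := hwO; exact (mem_normalizer_iff.mp n.2 z).mp hzP
  have hw3 : orderOf w = 3 := by
    obtain ⟨n, rfl⟩ := hwO; exact ((MulAut.conj (n : G)).orderOf_eq z).trans hz
  have hOeq : ∀ a ∈ O, a ∈ zpowers z ∨ a = w ∨ a = w⁻¹ := by
    have hsub : ({z, z⁻¹, w, w⁻¹} : Set G) ⊆ O := by
      intro a ha
      rcases ha with rfl | rfl | rfl | rfl
      · exact hzO
      · exact hOinv _ hzO
      · exact hwO
      · exact hOinv _ hwO
    have hc4 : ({z, z⁻¹, w, w⁻¹} : Set G).ncard = 4 := by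
      have h1 : w ≠ z := fun e => hwz (e ▸ mem_zpowers z)
      have h2 : w ≠ z⁻¹ := fun e => hwz (e ▸ inv_mem (mem_zpowers z))
      have h3 : w ≠ w⁻¹ := fun e => by
        have h2 : w ^ 2 = 1 := by rw [pow_two, ← eq_inv_iff_mul_eq_one]; exact e
        have := orderOf_dvd_of_pow_eq_one h2
        rw [hw3] at this; norm_num at this
      have h4 : w⁻¹ ≠ z := fun e => h2 (by rw [← e, inv_inv])
      have h5 : w⁻¹ ≠ z⁻¹ := fun e => h1 (inv_injective e)
      rw [Set.ncard_insert_of_notMem (by simp [hzz, h1.symm, h4.symm]),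
        Set.ncard_insert_of_notMem (by simp [h2.symm, h5.symm]),
        Set.ncard_insert_of_notMem (by simp [h3]), Set.ncard_singleton]
    intro a ha
    have heq := Set.eq_of_subset_of_ncard_le hsub (by rw [hc4, hO4]) (Set.toFinite _)
    rw [← heq] at ha
    rcases ha with e | e | e | e
    · exact Or.inl (e ▸ mem_zpowers z)
    · exact Or.inl (e ▸ inv_mem (mem_zpowers z))
    · exact Or.inr (Or.inl e)
    · exact Or.inr (Or.inr e)
  have hzwP : closure ({z, w} : Set G) = (P : Subgroup G) := by
    obtain ⟨Q, hQ⟩ := h.two_lines hz (hw3 ▸ pow_orderOf_eq_one w)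
      (mem_cent.mp (h.le_cent_three P hwP hzP)) hwz
    rw [hQ]
    have hle : (Q : Subgroup G) ≤ (P : Subgroup G) := by
      rw [← hQ, closure_le]
      rintro a (rfl | rfl)
      · exact hzP
      · exact hwP
    exact eq_of_le_of_card_ge hle (by rw [h.card_three P, h.card_three Q])
  -- an element of order three fixes eleven points
  have hline : ∀ g k : G, g * z * g⁻¹ = k * z * k⁻¹ ∨ g * z * g⁻¹ = (k * z * k⁻¹)⁻¹ →
      (g : G ⧸ M) = (k : G ⧸ M) := by
    intro g k hgk
    rw [QuotientGroup.eq]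
    have h1 : k⁻¹ * g ∈ M := by
      refine mem_normalizer_zpowers ?_
      have h2 : k⁻¹ * g * z * (k⁻¹ * g)⁻¹ = k⁻¹ * (g * z * g⁻¹) * k := by group
      rcases hgk with e | e
      · left; rw [h2, e]; group
      · right; rw [h2, e]; group
    have := inv_mem h1
    rwa [mul_inv_rev, inv_inv] at this
  obtain ⟨n₀, hn₀⟩ := hwO
  set g₀ : G := (n₀ : G) with hg₀
  set o : G ⧸ M := ((1 : G) : G ⧸ M)
  have horbit : MulAction.fixedBy (G ⧸ M) z = insert o (MulAction.orbit ↥C (g₀ : G ⧸ M)) := by
    ext q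
    induction q using QuotientGroup.induction_on with
    | _ g =>
      have hz' : z = (1 : G) * z * (1 : G)⁻¹ := by group
      constructor
      · intro hq
        rw [MulAction.mem_fixedBy, hz', hfix, ← hz'] at hq
        by_cases hmem : g * z * g⁻¹ ∈ zpowers z
        · left
          apply hline
          rcases mem_zpowers_three hz hmem with e | e | e
          · exact absurd (conj_eq_one_iff.mp e) hz1
          · left; rw [e, one_mul, inv_one, mul_one]
          · right; rw [e, one_mul, inv_one, mul_one]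
        right
        set u := g * z * g⁻¹ with hu
        have hu3 : orderOf u = 3 := ((MulAut.conj g).orderOf_eq z).trans hz
        obtain ⟨Q, hQ⟩ := h.two_lines hz (hu3 ▸ pow_orderOf_eq_one u) hq hmem
        have hzQ : z ∈ (Q : Subgroup G) := hQ ▸ subset_closure (Set.mem_insert z _)
        have huQ : u ∈ (Q : Subgroup G) := hQ ▸ subset_closure (Set.mem_insert_of_mem z rfl)
        obtain ⟨c, hc⟩ := MulAction.exists_smul_eq ↥C
          (P.subtype (h.le_cent_three P hzP)) (Q.subtype (h.le_cent_three Q hzQ))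
        have huc : (⟨u, h.le_cent_three Q hzQ huQ⟩ : ↥C) ∈
            ((c • P.subtype (h.le_cent_three P hzP) : Sylow 3 ↥C) : Subgroup ↥C) := by
          rw [hc]; exact huQ
        obtain ⟨⟨b, hbC⟩, hbP, hb⟩ := huc
        have hb' : (c : G) * b * (c : G)⁻¹ = u := congrArg Subtype.val hb
        have hbP' : b ∈ (P : Subgroup G) := hbP
        haveI := h.comm_three P
        have hcz : b = ((c : G)⁻¹ * g) * z * ((c : G)⁻¹ * g)⁻¹ := by
          have : b = (c : G)⁻¹ * ((c : G) * b * (c : G)⁻¹) * (c : G) := by group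
          rw [this, hb', hu]; group
        obtain ⟨n, hn, he⟩ := P.conj_eq_normalizer_conj_of_mem z ((c : G)⁻¹ * g)⁻¹ hzP
          (by rw [inv_inv, ← hcz]; exact hbP')
        rw [inv_inv, ← hcz] at he
        have hbO : b ∈ O := ⟨⟨n⁻¹, inv_mem hn⟩, by
          show n⁻¹ * z * n⁻¹⁻¹ = b
          rw [inv_inv, he]⟩
        refine ⟨c, ?_⟩
        show (c : G) • (g₀ : G ⧸ M) = (g : G ⧸ M)
        rw [MulAction.Quotient.smul_mk]
        apply hline
        have h1 : (c : G) * g₀ * z * ((c : G) * g₀)⁻¹ = (c : G) * w * (c : G)⁻¹ := by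
          rw [← hn₀]; simp only [hg₀]; group
        simp only [smul_eq_mul]
        rw [h1, ← hu, ← hb']
        rcases hOeq b hbO with e | e | e
        · exfalso
          apply hmem
          rw [← hb']
          obtain ⟨k, rfl⟩ := mem_zpowers_iff.mp e
          rw [← conj_zpow, mul_inv_eq_iff_eq_mul.mpr (mem_cent.mp c.2).eq]
          exact zpow_mem (mem_zpowers z) k
        · left; rw [e]
        · right; rw [e, ← conj_inv, inv_inv]
      · rintro (hq | ⟨c, hc⟩)
        · rw [hq, MulAction.mem_fixedBy, hz', hfix]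
        · rw [MulAction.mem_fixedBy, ← hc]
          show z • ((c : G) • (g₀ : G ⧸ M)) = (c : G) • (g₀ : G ⧸ M)
          rw [← mul_smul, ← (mem_cent.mp c.2).eq, mul_smul]
          congr 1
          rw [hz', hfix, ← hz', show g₀ * z * g₀⁻¹ = w from hn₀]
          exact (mem_cent.mp (h.le_cent_three P hzP hwP)).symm
  have horb10 : (MulAction.orbit ↥C (g₀ : G ⧸ M)).ncard = 10 := by
    rw [← MulAction.index_stabilizer]
    have hst : Nat.card ↥(MulAction.stabilizer ↥C (g₀ : G ⧸ M)) = 18 := by
      rw [← hk]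
      refine Nat.card_congr
        { toFun := fun c => ⟨(c.1 : G), ?_, c.1.2⟩
          invFun := fun c => ⟨⟨c.1, c.2.2⟩, ?_⟩
          left_inv := fun c => rfl
          right_inv := fun c => rfl }
      · have hc : (c.1 : G) • (g₀ : G ⧸ M) = (g₀ : G ⧸ M) := c.2
        rw [MulAction.Quotient.smul_mk, QuotientGroup.eq, smul_eq_mul] at hc
        have hcw : (c.1 : G) * w * (c.1 : G)⁻¹ = w ∨ (c.1 : G) * w * (c.1 : G)⁻¹ = w⁻¹ := by
          have hm := inv_mem hc
          have e : ((↑c.1 * g₀)⁻¹ * g₀)⁻¹ = g₀⁻¹ * ((c.1 : G) * g₀) := by group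
          rw [e] at hm
          rw [← hn₀]
          rcases zpowers_conj_mem hz hm with e' | e'
          · left
            calc (c.1 : G) * (g₀ * z * g₀⁻¹) * (c.1 : G)⁻¹
                = g₀ * ((g₀⁻¹ * ((c.1 : G) * g₀)) * z * (g₀⁻¹ * ((c.1 : G) * g₀))⁻¹) * g₀⁻¹ := by
                  group
              _ = g₀ * z * g₀⁻¹ := by rw [e']
          · right
            calc (c.1 : G) * (g₀ * z * g₀⁻¹) * (c.1 : G)⁻¹
                = g₀ * ((g₀⁻¹ * ((c.1 : G) * g₀)) * z * (g₀⁻¹ * ((c.1 : G) * g₀))⁻¹) * g₀⁻¹ := by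
                  group
              _ = (g₀ * z * g₀⁻¹)⁻¹ := by rw [e', conj_inv]
        show (c.1 : G) ∈ normalizer ((P : Subgroup G) : Set G)
        rw [mem_normalizer_iff_map_conj_eq]
        refine eq_of_le_of_card_ge ?_ (card_map_of_injective (MulAut.conj (c.1 : G)).injective).ge
        conv_lhs => rw [← hzwP]
        rw [MonoidHom.map_closure, closure_le]
        rintro _ ⟨a, (rfl | rfl), rfl⟩
        · show (c.1 : G) * a * (c.1 : G)⁻¹ ∈ (P : Subgroup G)
          rw [mul_inv_eq_iff_eq_mul.mpr (mem_cent.mp c.1.2).eq]; exact hzP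
        · show (c.1 : G) * a * (c.1 : G)⁻¹ ∈ (P : Subgroup G)
          rcases hcw with e' | e' <;> rw [e']
          · exact hwP
          · exact inv_mem hwP
      · rw [MulAction.mem_stabilizer_iff]
        show c.1 • (g₀ : G ⧸ M) = (g₀ : G ⧸ M)
        rw [MulAction.Quotient.smul_mk]
        apply hline
        simp only [smul_eq_mul]
        have hcO : c.1 * w * c.1⁻¹ ∈ O :=
          ⟨⟨c.1 * g₀, mul_mem c.2.1 n₀.2⟩, by
            show c.1 * g₀ * z * (c.1 * g₀)⁻¹ = _
            rw [← hn₀]; simp only [hg₀]; group⟩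
        have h1 : c.1 * g₀ * z * (c.1 * g₀)⁻¹ = c.1 * w * c.1⁻¹ := by rw [← hn₀]; simp only [hg₀]; group
        rw [h1, show g₀ * z * g₀⁻¹ = w from hn₀]
        rcases hOeq _ hcO with e | e | e
        · exfalso
          apply hwz
          obtain ⟨k, hk'⟩ := mem_zpowers_iff.mp e
          refine mem_zpowers_iff.mpr ⟨k, ?_⟩
          have hcz : c.1⁻¹ * z * c.1 = z := by
            rw [mul_assoc, ← (mem_cent.mp c.2.2).eq, inv_mul_cancel_left]
          calc z ^ k = (c.1⁻¹ * z * c.1⁻¹⁻¹) ^ k := by rw [inv_inv, hcz]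
            _ = c.1⁻¹ * z ^ k * c.1⁻¹⁻¹ := by rw [conj_zpow]
            _ = w := by rw [hk']; group
        · exact Or.inl e
        · exact Or.inr e
    have h1 := (MulAction.stabilizer ↥C (g₀ : G ⧸ M)).card_mul_index
    rw [hst, hC180] at h1
    omega
  have hfix11 : Nat.card (MulAction.fixedBy (G ⧸ M) z) = 11 := by
    rw [Nat.card_coe_set_eq, horbit, Set.ncard_insert_of_notMem ?_ (Set.toFinite _), horb10]
    rintro ⟨c, hc⟩
    have hc' : ((c : G) * g₀ : G ⧸ M) = ((1 : G) : G ⧸ M) := hc
    rw [QuotientGroup.eq, mul_one, inv_mem_iff] at hc'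
    have hg : g₀ ∈ M := by
      have := mul_mem (inv_mem (hCM c.2)) hc'
      rwa [inv_mul_cancel_left] at this
    apply hwz
    rcases zpowers_conj_mem hz hg with e | e <;> rw [show g₀ * z * g₀⁻¹ = w from hn₀] at e <;> rw [e]
    · exact mem_zpowers z
    · exact inv_mem (mem_zpowers z)
  -- each point is noncommuting with exactly three others
  let S : G ⧸ M → Finset (G ⧸ M) := fun a => Finset.univ.filter (R a)
  have hS : ∀ a b, b ∈ S a ↔ R a b := fun a b => by simp [S]
  have hS3 : ∀ a, (S a).card = 3 := by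
    intro a
    have h1 : Nat.card (MulAction.fixedBy (G ⧸ M) (za a)) = 11 := by
      rw [← hfix11]
      refine (Nat.card_congr (Equiv.subtypeEquiv (MulAction.toPerm a.out) fun q => ?_)).symm
      rw [MulAction.mem_fixedBy, MulAction.mem_fixedBy]
      show z • q = q ↔ (a.out * z * a.out⁻¹) • (a.out • q) = a.out • q
      rw [mul_smul, mul_smul, inv_smul_smul, smul_left_cancel_iff]
    have h2 := Finset.card_filter_add_card_filter_not (s := (Finset.univ : Finset (G ⧸ M))) (R a)
    have h3 : (Finset.univ.filter fun b => ¬ R a b).card = 11 := by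
      rw [← h1, ← Fintype.card_subtype, ← Nat.card_eq_fintype_card]
      exact Nat.card_congr (Equiv.subtypeEquivRight fun b => not_not)
    rw [Finset.card_univ, ← Nat.card_eq_fintype_card, ← index_eq_card, hidx, h3] at h2
    show (Finset.univ.filter (R a)).card = 3
    omega
  have hover : ∀ a b, R a b → ∃ c, R a c ∧ R b c := by
    intro a b hab
    by_contra hc
    push_neg at hc
    have hdis : Equiv.Perm.Disjoint (MulAction.toPermHom G (G ⧸ M) (za a))
        (MulAction.toPermHom G (G ⧸ M) (za b)) := fun q => by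
      by_cases hq : R a q
      · exact Or.inr (not_not.mp (hc q hq))
      · exact Or.inl (not_not.mp hq)
    apply (hRcomm a b).mp hab
    apply SmallGroups.toPerm_injective hMT
    rw [map_mul _ (za a) (za b), map_mul _ (za b) (za a)]
    exact hdis.commute
  have hclosed : ∀ a b, R a b → insert a (S a) = insert b (S b) := by
    intro a b hab
    set σ := za a with hσ
    have hσ3 : σ ^ 3 = 1 := by
      have : orderOf σ = 3 := ((MulAut.conj a.out).orderOf_eq z).trans hz
      rw [← this, pow_orderOf_eq_one]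
    have hσfix : σ • a = a := not_not.mp (hirr a)
    have hmem : ∀ q, R a q → R a (σ • q) := fun q hq => by
      have := hinvar σ a q hq; rwa [hσfix] at this
    have hne1 : σ • b ≠ b := hab
    have hcyc : σ • (σ • (σ • b)) = b := by
      rw [← mul_smul, ← mul_smul, show σ * σ * σ = σ ^ 3 by simp [pow_succ, mul_assoc], hσ3,
        one_smul]
    have hne2 : σ • (σ • b) ≠ b := fun e => hne1 (by
      have h1 : σ • (σ • (σ • b)) = σ • b := by rw [e]
      exact h1.symm.trans hcyc)
    have hne3 : σ • (σ • b) ≠ σ • b := hmem b hab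
    have hSa : S a = {b, σ • b, σ • (σ • b)} := by
      symm
      apply Finset.eq_of_subset_of_card_le
      · intro q hq
        simp only [Finset.mem_insert, Finset.mem_singleton] at hq
        rw [hS]
        rcases hq with rfl | rfl | rfl
        · exact hab
        · exact hmem b hab
        · exact hmem _ (hmem b hab)
      · rw [hS3, Finset.card_insert_of_notMem (by simp [hne1.symm, hne2.symm]),
          Finset.card_insert_of_notMem (by simp [hne3.symm]), Finset.card_singleton]
    obtain ⟨c, hac, hbc⟩ := hover a b hab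
    have hc : c ∈ S a := (hS a c).mpr hac
    rw [hSa] at hc
    simp only [Finset.mem_insert, Finset.mem_singleton] at hc
    have hall : R b (σ • b) ∧ R b (σ • (σ • b)) := by
      rcases hc with rfl | rfl | rfl
      · exact absurd hbc (hirr _)
      · have h1 := hinvar σ _ _ (hinvar σ _ _ hbc)
        rw [hcyc] at h1
        exact ⟨hbc, hsymm _ _ h1⟩
      · have h1 := hinvar σ _ _ hbc
        rw [hcyc] at h1
        exact ⟨hsymm _ _ h1, hbc⟩
    have hSb : S b = {a, σ • b, σ • (σ • b)} := by
      symm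
      apply Finset.eq_of_subset_of_card_le
      · intro q hq
        simp only [Finset.mem_insert, Finset.mem_singleton] at hq
        rw [hS]
        rcases hq with rfl | rfl | rfl
        · exact hsymm _ _ hab
        · exact hall.1
        · exact hall.2
      · have e1 : a ≠ σ • b := fun e => hirr a (by
          have := hmem b hab; rwa [← e] at this)
        have e2 : a ≠ σ • (σ • b) := fun e => hirr a (by
          have := hmem _ (hmem b hab); rwa [← e] at this)
        rw [hS3, Finset.card_insert_of_notMem (by simp [e1, e2]),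
          Finset.card_insert_of_notMem (by simp [hne3.symm]), Finset.card_singleton]
    rw [hSa, hSb]
    exact Finset.insert_comm a b _
  have hsum := Finset.card_eq_sum_card_image (fun a => insert a (S a))
    (Finset.univ : Finset (G ⧸ M))
  have hfib : ∀ T ∈ (Finset.univ : Finset (G ⧸ M)).image (fun a => insert a (S a)),
      ((Finset.univ : Finset (G ⧸ M)).filter fun b => insert b (S b) = T).card = 4 := by
    intro T hT
    obtain ⟨a, -, rfl⟩ := Finset.mem_image.mp hT
    have heq : ((Finset.univ : Finset (G ⧸ M)).filter fun b => insert b (S b) = insert a (S a)) =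
        insert a (S a) := by
      ext b
      simp only [Finset.mem_filter, Finset.mem_univ, true_and]
      constructor
      · intro e; rw [← e]; exact Finset.mem_insert_self b _
      · intro hb
        rcases Finset.mem_insert.mp hb with rfl | hb
        · rfl
        · exact (hclosed a b ((hS a b).mp hb)).symm
    rw [heq, Finset.card_insert_of_notMem (fun e => hirr a ((hS a a).mp e)), hS3]
  rw [Finset.sum_congr rfl hfib, Finset.sum_const, smul_eq_mul, Finset.card_univ,
    ← Nat.card_eq_fintype_card, ← index_eq_card, hidx] at hsum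
  omega

end Hyp

end Cfsg.Agent.BC87.N5040
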