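import Cfsg.Agent.BC87.N5040.Counts

/-!
# The prime `3` in a simple group of order `5040`
-/

set_option autoImplicit false

namespace Cfsg.Agent.BC87.N5040

open Subgroup
open Cfsg.Agent.BC87.A7 (mem_cent exists_mem_orderOf inner_count exists_sylow_mem card_sylow_index
  cent_zpowers stab_mul_range mem_zpowers_three centralizes_of_order fixed_eq_one
  inverse_of_index_two card_cent_conj)

variable {G : Type*} [Group G] [Finite G]

theorem card_cent_eq_of_index_two {H : Subgroup G} {C : Subgroup G} (hle : C ≤ H)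
    (hc : Nat.card H = 2 * Nat.card C) {g : G} (hg : g ∈ H) (hodd : Odd (orderOf g)) : g ∈ C := by
  have hidx : (C.subgroupOf H).index = 2 := by
    have h1 := (C.subgroupOf H).card_mul_index
    rw [Nat.card_congr (subgroupOfEquivOfLe hle).toEquiv, hc, mul_comm 2] at h1
    exact Nat.eq_of_mul_eq_mul_left Nat.card_pos h1
  have h1 : g * g ∈ C := mul_self_mem_of_index_two hidx (⟨g, hg⟩ : ↥H)
  obtain ⟨k, hk⟩ := hodd
  have h2 : g = (g * g) ^ (k + 1) := by
    rw [← pow_two, ← pow_mul, show 2 * (k + 1) = orderOf g + 1 by omega, pow_succ,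
      pow_orderOf_eq_one, one_mul]
  rw [h2]
  exact pow_mem h1 _

namespace Hyp

variable [IsSimpleGroup G] (h : Hyp G)
include h

/-- A subgroup with an element of order `7` has order `k * n`, with `n ≡ 1 (mod 7)` and `k ∣ 42`. -/
theorem count_seven {H : Subgroup G} {x : G} (hx : orderOf x = 7) (hxH : x ∈ H) :
    ∃ k n : ℕ, k ∣ 42 ∧ 7 ∣ k ∧ n % 7 = 1 ∧ k * n = Nat.card H ∧
      ∀ a ∈ H, Commute a x → orderOf a ∣ k := by
  haveI : Fact (Nat.Prime 7) := ⟨by norm_num⟩
  obtain ⟨P, hxP⟩ := exists_sylow_mem hx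
  have hP : Nat.card ↥(P : Subgroup G) = 7 := by
    rw [SmallGroups.card_sylow_eq (a := 1) (m := 720) (by rw [h.card]; norm_num) (by norm_num) P,
      pow_one]
  have he : zpowers x = (P : Subgroup G) :=
    eq_of_le_of_card_ge (zpowers_le.mpr hxP) (by rw [hP, Nat.card_zpowers, hx])
  have hPH : (P : Subgroup G) ≤ H := he ▸ zpowers_le.mpr hxH
  obtain ⟨n, hn, hkn⟩ := inner_count P H hPH
  have h7 := card_dvd_of_le (le_inf (le_normalizer (H := (P : Subgroup G))) hPH)
  rw [hP] at h7
  refine ⟨_, n, ?_, h7, hn, hkn, fun a ha hax => ?_⟩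
  · exact h.card_norm_seven P ▸ card_dvd_of_le inf_le_left
  · refine orderOf_dvd_natCard (normalizer ((P : Subgroup G) : Set G) ⊓ H) ⟨?_, ha⟩
    apply centralizer_le_normalizer
    rw [← he, cent_zpowers]
    exact mem_cent.mpr hax

theorem no_five_seven {x y : G} (hx : orderOf x = 7) (hy : orderOf y = 5) : ¬ Commute y x := by
  intro hc
  obtain ⟨k, n, hk, -, -, -, hdiv⟩ :=
    h.count_seven hx (mem_cent.mpr (Commute.refl x) : x ∈ centralizer ({x} : Set G))
  have h5 := (hdiv y (mem_cent.mpr hc) hc).trans hk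
  rw [hy] at h5
  norm_num at h5

/-- A normaliser of a subgroup of order `5` with order divisible by `45` has order `90`. -/
theorem five_nine {y : G} (hy : orderOf y = 5) {H : Subgroup G}
    (hH : H ≤ normalizer ((zpowers y : Subgroup G) : Set G)) (h45 : 45 ∣ Nat.card H) :
    Nat.card ↥(normalizer ((zpowers y : Subgroup G) : Set G)) = 90 ∧
      Nat.card ↥(centralizer ({y} : Set G)) = 45 := by
  haveI : Fact (Nat.Prime 5) := ⟨by norm_num⟩
  obtain ⟨Q, hyQ⟩ := exists_sylow_mem hy
  have hQ : Nat.card ↥(Q : Subgroup G) = 5 := by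
    rw [SmallGroups.card_sylow_eq (a := 1) (m := 1008) (by rw [h.card]; norm_num) (by norm_num) Q,
      pow_one]
  have he : zpowers y = (Q : Subgroup G) :=
    eq_of_le_of_card_ge (zpowers_le.mpr hyQ) (by rw [hQ, Nat.card_zpowers, hy])
  rw [he] at hH ⊢
  set N := normalizer ((Q : Subgroup G) : Set G)
  set C := centralizer ((Q : Subgroup G) : Set G) with hC
  have hCe : C = centralizer ({y} : Set G) := by rw [hC, ← he, cent_zpowers]
  rw [← hCe]
  have hle : C ≤ N := centralizer_le_normalizer _
  have hCN : C.relIndex N ∣ 4 := SmallGroups.relIndex_centralizer_dvd_of_prime (p := 5) _ hQ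
  have hprod : Nat.card C * C.relIndex N = Nat.card N := by
    have h1 := (C.subgroupOf N).card_mul_index
    rwa [Nat.card_congr (subgroupOfEquivOfLe hle).toEquiv] at h1
  have hne1 : C.relIndex N ≠ 1 := by
    intro h1
    exact SmallGroups.not_normalizer_le_centralizer h.ne (by rw [h.card]; norm_num) Q
      (relIndex_eq_one.mp h1)
  have hN45 : 45 ∣ Nat.card N := h45.trans (card_dvd_of_le hH)
  have hNn : Nat.card N * _ = _ := SmallGroups.card_normalizer_mul Q
  rw [h.card] at hNn
  have hmem := SmallGroups.card_sylow_mem_list (G := G) (p := 5) (a := 1) (m := 1008)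
    (by rw [h.card]; norm_num) (by norm_num)
  rw [show (Nat.divisors 1008).filter (fun d => d % 5 = 1) = {1, 6, 16, 21, 36, 56, 126, 336} by
    decide +kernel] at hmem
  simp only [Finset.mem_insert, Finset.mem_singleton] at hmem
  have hr : C.relIndex N ∈ Nat.divisors 4 := Nat.mem_divisors.mpr ⟨hCN, by norm_num⟩
  rw [show Nat.divisors 4 = {1, 2, 4} from by decide +kernel] at hr
  simp only [Finset.mem_insert, Finset.mem_singleton] at hr
  rcases hmem with e | e | e | e | e | e | e | e <;> rw [e] at hNn <;> try omega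
  · exact absurd e (SmallGroups.card_sylow_ne_one h.ne (by rw [h.card]; norm_num))
  · -- order `315`: an element of order `7` would centralise `y`
    exfalso
    haveI : Fact (Nat.Prime 7) := ⟨by norm_num⟩
    have h7 : 7 ∣ Nat.card C := by
      rcases hr with e' | e' | e' <;> rw [e'] at hprod <;> omega
    obtain ⟨x, hx, hx7⟩ := exists_mem_orderOf C 7 h7
    rw [hCe] at hx
    exact h.no_five_seven hx7 hy (mem_cent.mp hx).symm
  · have hN90 : Nat.card N = 90 := by omega
    refine ⟨hN90, ?_⟩
    rcases hr with e' | e' | e' <;> rw [e'] at hprod <;> omega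

theorem card_three (P : Sylow 3 G) [Fact (Nat.Prime 3)] : Nat.card ↥(P : Subgroup G) = 9 :=
  SmallGroups.card_sylow_eq (a := 2) (m := 560) (by rw [h.card]; norm_num) (by norm_num) P

theorem comm_three (P : Sylow 3 G) [Fact (Nat.Prime 3)] : IsMulCommutative ↥(P : Subgroup G) :=
  IsPGroup.isMulCommutative_of_card_eq_prime_sq (p := 3) (h.card_three P)

theorem le_cent_three (P : Sylow 3 G) [Fact (Nat.Prime 3)] {z : G} (hz : z ∈ (P : Subgroup G)) :
    (P : Subgroup G) ≤ centralizer ({z} : Set G) := fun a ha =>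
  mem_cent.mpr (congrArg Subtype.val (isMulCommutative_iff.mp (h.comm_three P) ⟨a, ha⟩ ⟨z, hz⟩))

theorem stab_lt (P : Sylow 3 G) [Fact (Nat.Prime 3)] {z : G} (hz : z ∈ (P : Subgroup G))
    (hz1 : z ≠ 1) :
    Nat.card ↥(normalizer ((P : Subgroup G) : Set G) ⊓ centralizer ({z} : Set G)) ≠
      Nat.card ↥(normalizer ((P : Subgroup G) : Set G)) := by
  intro he
  have hle : normalizer ((P : Subgroup G) : Set G) ≤ centralizer ({z} : Set G) :=
    (eq_of_le_of_card_ge inf_le_left he.ge) ▸ inf_le_right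
  refine hz1 (fixed_eq_one h.ne P (h.comm_three P) hz fun n hn => ?_)
  rw [mul_inv_eq_iff_eq_mul]
  exact mem_cent.mp (hle hn)

/-- There are `70` or `280` Sylow `3`-subgroups. -/
theorem card_norm (P : Sylow 3 G) [Fact (Nat.Prime 3)] :
    Nat.card ↥(normalizer ((P : Subgroup G) : Set G)) = 72 ∨
      Nat.card ↥(normalizer ((P : Subgroup G) : Set G)) = 18 := by
  set N := normalizer ((P : Subgroup G) : Set G) with hN
  have hNn : Nat.card N * _ = _ := SmallGroups.card_normalizer_mul P
  rw [h.card] at hNn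
  have hmem := SmallGroups.card_sylow_mem_list (G := G) (p := 3) (a := 2) (m := 560)
    (by rw [h.card]; norm_num) (by norm_num)
  rw [show (Nat.divisors 560).filter (fun d => d % 3 = 1) =
      {1, 4, 7, 10, 16, 28, 40, 70, 112, 280} by decide +kernel] at hmem
  simp only [Finset.mem_insert, Finset.mem_singleton] at hmem
  have hPN : (P : Subgroup G) ≤ N := le_normalizer
  have hPb : (P : Subgroup G) ≠ ⊥ := fun e => by
    have := h.card_three P; rw [e, card_bot] at this; omega
  have hPt : (P : Subgroup G) ≠ ⊤ := fun e => by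
    have := h.card_three P; rw [e, card_top, h.card] at this; omega
  have hbd := h.normalizer_le hPb hPt
  rw [← hN] at hbd
  obtain ⟨z, hzP, hz3⟩ := exists_mem_orderOf (P : Subgroup G) 3 (by rw [h.card_three P]; norm_num)
  have hseven : ¬ 7 ∣ Nat.card N := fun hd => by
    haveI : Fact (Nat.Prime 7) := ⟨by norm_num⟩
    obtain ⟨x, hx, hx7⟩ := exists_mem_orderOf N 7 hd
    have hxP := centralizes_of_order (q := 7) (h.card_three P) (Or.inr rfl)
      (by rw [← hx7]; exact pow_orderOf_eq_one x) hx
    obtain ⟨k, n, hk, -, -, -, hdiv⟩ := h.count_seven (H := centralizer ({x} : Set G)) hx7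
      (mem_cent.mpr (Commute.refl x))
    -- the Sylow `3`-subgroup would sit in a group of order `42`
    haveI : Fact (Nat.Prime 7) := ⟨by norm_num⟩
    obtain ⟨Q, hxQ⟩ := exists_sylow_mem (G := G) hx7
    have hQ : Nat.card ↥(Q : Subgroup G) = 7 := by
      rw [SmallGroups.card_sylow_eq (a := 1) (m := 720) (by rw [h.card]; norm_num)
        (by norm_num) Q, pow_one]
    have he : zpowers x = (Q : Subgroup G) :=
      eq_of_le_of_card_ge (zpowers_le.mpr hxQ) (by rw [hQ, Nat.card_zpowers, hx7])
    have hPQ : (P : Subgroup G) ≤ normalizer ((Q : Subgroup G) : Set G) := by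
      intro a ha
      apply centralizer_le_normalizer
      rw [← he, cent_zpowers]
      exact mem_cent.mpr (mem_centralizer_iff.mp hxP a ha)
    have := card_dvd_of_le hPQ
    rw [h.card_norm_seven Q, h.card_three P] at this
    norm_num at this
  have hfive : 5 ∣ Nat.card N → ∃ y, orderOf y = 5 ∧ y ∈ centralizer ((P : Subgroup G) : Set G) ∧
      Nat.card ↥(centralizer ({y} : Set G)) = 45 := by
    intro hd
    haveI : Fact (Nat.Prime 5) := ⟨by norm_num⟩
    obtain ⟨y, hy, hy5⟩ := exists_mem_orderOf N 5 hd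
    have hyP := centralizes_of_order (q := 5) (h.card_three P) (Or.inl rfl)
      (by rw [← hy5]; exact pow_orderOf_eq_one y) hy
    refine ⟨y, hy5, hyP, ?_⟩
    have hPy : (P : Subgroup G) ≤ centralizer ({y} : Set G) := fun a ha =>
      mem_cent.mpr (mem_centralizer_iff.mp hyP a ha)
    refine (h.five_nine hy5 (H := centralizer ({y} : Set G)) ?_ ?_).2
    · rw [← cent_zpowers]; exact centralizer_le_normalizer _
    · refine Nat.Coprime.mul_dvd_of_dvd_of_dvd (m := 9) (n := 5) (by norm_num)
        (h.card_three P ▸ card_dvd_of_le hPy)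
        (hy5 ▸ orderOf_dvd_natCard _ (mem_cent.mpr (Commute.refl y)))
  rcases hmem with e | e | e | e | e | e | e | e | e | e <;> rw [e] at hNn
  · omega
  · omega
  · omega
  · exact absurd ⟨72, by omega⟩ hseven
  · exact absurd ⟨45, by omega⟩ hseven
  · -- `28`: an element of order `5` fixes only one of them
    exfalso
    obtain ⟨y, hy5, hyP, hy45⟩ := hfive ⟨36, by omega⟩
    haveI : Fact (Nat.Prime 5) := ⟨by norm_num⟩
    have hyN : y ∈ N := centralizer_le_normalizer _ hyP
    have hone : Nat.card (MulAction.fixedBy (G ⧸ N) y) = 1 := by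
      rw [Nat.card_eq_one_iff_exists]
      refine ⟨⟨((1 : G) : G ⧸ N), ?_⟩, ?_⟩
      · rw [SmallGroups.mk_mem_fixedBy_iff, inv_one, one_mul, mul_one]; exact hyN
      rintro ⟨q, hq⟩
      induction q using QuotientGroup.induction_on with
      | _ g =>
        rw [SmallGroups.mk_mem_fixedBy_iff] at hq
        refine Subtype.ext ?_
        show (g : G ⧸ N) = ((1 : G) : G ⧸ N)
        rw [QuotientGroup.eq, mul_one, inv_mem_iff, hN]
        have hy' : (g⁻¹ * y * g) ∈ centralizer ((P : Subgroup G) : Set G) :=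
          centralizes_of_order (q := 5) (h.card_three P) (Or.inl rfl) (by
            have h1 : y ^ 5 = 1 := hy5 ▸ pow_orderOf_eq_one y
            calc (g⁻¹ * y * g) ^ 5 = g⁻¹ * y ^ 5 * g := by
                  simp only [pow_succ, pow_zero]; group
              _ = 1 := by rw [h1, mul_one, inv_mul_cancel]) hq
        set C := centralizer ({y} : Set G)
        have hPy : (P : Subgroup G) ≤ C := fun a ha =>
          mem_cent.mpr (mem_centralizer_iff.mp hyP a ha)
        have hgP : ((g • P : Sylow 3 G) : Subgroup G) ≤ C := by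
          rintro _ ⟨a, ha, rfl⟩
          refine mem_cent.mpr ?_
          show Commute (g * a * g⁻¹) y
          have h1 : Commute a (g⁻¹ * y * g) := mem_centralizer_iff.mp hy' a ha
          have h2 : Commute (g * a * g⁻¹) (g * (g⁻¹ * y * g) * g⁻¹) := h1.map (MulAut.conj g)
          have h3 : g * (g⁻¹ * y * g) * g⁻¹ = y := by group
          rwa [h3] at h2
        -- a group of order `45` has one Sylow `3`-subgroup
        obtain ⟨n, hn, hkn⟩ := inner_count P C hPy
        rw [hy45] at hkn
        have hn1 : n = 1 := by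
          have h9 : 9 ∣ Nat.card ↥(N ⊓ C) := h.card_three P ▸ card_dvd_of_le (le_inf hPN hPy)
          obtain ⟨i, hi⟩ := h9
          rw [← hN, hi, mul_assoc] at hkn
          have : i * n = 5 := by omega
          have hn5 : n ∣ 5 := ⟨i, by rw [mul_comm]; exact this.symm⟩
          rcases (Nat.dvd_prime (by norm_num)).mp hn5 with rfl | rfl
          · rfl
          · omega
        rw [hn1, mul_one, ← hy45] at hkn
        have hCN : C ≤ N := (eq_of_le_of_card_ge inf_le_right hkn.ge) ▸ inf_le_left
        have h2 : ((g • P : Sylow 3 G) : Subgroup G) ⊓ N =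
            ((g • P : Sylow 3 G) : Subgroup G) ⊓ (P : Subgroup G) :=
          (g • P).2.inf_normalizer_sylow P
        rw [inf_eq_left.mpr (hgP.trans hCN)] at h2
        have h3 : g • P = P := Sylow.ext (eq_of_le_of_card_ge (inf_eq_left.mp h2.symm)
          (by rw [h.card_three P, h.card_three (g • P)]))
        exact Sylow.smul_eq_iff_mem_normalizer.mp h3
    have h5 := SmallGroups.card_fixedBy_modEq_card (q := 5) (α := G ⧸ N) (x := y) (i := 1)
      (by rw [pow_one, ← hy5]; exact pow_orderOf_eq_one y)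
    rw [hone, ← index_eq_card, ← card_sylow_index P, e] at h5
    exact absurd h5 (by decide)
  · exact absurd ⟨18, by omega⟩ hseven
  · left; omega
  · exfalso
    obtain ⟨y, hy5, hyP, -⟩ := hfive ⟨9, by omega⟩
    refine SmallGroups.not_normalizer_le_centralizer h.ne (by rw [h.card]; norm_num) P ?_
    rw [← hN]
    have hPP : (P : Subgroup G) ≤ centralizer ((P : Subgroup G) : Set G) := by
      haveI := h.comm_three P; exact le_centralizer _
    have hle : centralizer ((P : Subgroup G) : Set G) ≤ N := centralizer_le_normalizer _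
    have h45 : 45 ∣ Nat.card ↥(centralizer ((P : Subgroup G) : Set G)) :=
      Nat.Coprime.mul_dvd_of_dvd_of_dvd (m := 9) (n := 5) (by norm_num)
        (h.card_three P ▸ card_dvd_of_le hPP) (hy5 ▸ orderOf_dvd_natCard _ hyP)
    exact (eq_of_le_of_card_ge hle (by
      have := Nat.le_of_dvd Nat.card_pos h45; omega)).ge
  · right; omega

variable [Fact (Nat.Prime 3)]

/-- Burnside's normal `3`-complement in an overgroup of `P`. -/
theorem exists_complement (P : Sylow 3 G) {C : Subgroup G} (hPC : (P : Subgroup G) ≤ C)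
    (hc : normalizer ((P : Subgroup G) : Set G) ⊓ C ≤ centralizer ((P : Subgroup G) : Set G)) :
    ∃ K : Subgroup G, K ≤ C ∧ 9 * Nat.card K = Nat.card C ∧
      (∀ c ∈ C, ∀ a ∈ K, c * a * c⁻¹ ∈ K) ∧
      ∀ (a : G) (n : ℕ), a ∈ C → n.Coprime 3 → a ^ n = 1 → a ∈ K := by
  let P' : Sylow 3 ↥C := P.subtype hPC
  have hP'c : Nat.card ↥(P' : Subgroup ↥C) = 9 :=
    (Nat.card_congr (subgroupOfEquivOfLe hPC).toEquiv).trans (h.card_three P)
  haveI hab' : IsMulCommutative ↥(P' : Subgroup ↥C) :=
    IsPGroup.isMulCommutative_of_card_eq_prime_sq (p := 3) (by rw [hP'c]; norm_num)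
  have hN' : normalizer ((P' : Subgroup ↥C) : Set ↥C) ≤
      centralizer ((P' : Subgroup ↥C) : Set ↥C) := by
    intro a ha
    rw [show (P' : Subgroup ↥C) = (P : Subgroup G).subgroupOf C from rfl,
      ← subgroupOf_normalizer_eq hPC, mem_subgroupOf] at ha
    have h1 := hc ⟨ha, a.2⟩
    rw [mem_centralizer_iff]
    intro b hb
    exact Subtype.ext (mem_centralizer_iff.mp h1 b hb)
  obtain ⟨f, hf⟩ : ∃ f, f = MonoidHom.transferSylow P' hN' := ⟨_, rfl⟩
  have hK := (MonoidHom.ker_transferSylow_isComplement' P' hN').card_mul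
  rw [← hf, hP'c] at hK
  refine ⟨f.ker.map C.subtype, map_subtype_le _, ?_, ?_, ?_⟩
  · rw [card_map_of_injective C.subtype_injective, ← hK, mul_comm]
  · rintro c hc _ ⟨a, ha, rfl⟩
    exact ⟨⟨c, hc⟩ * a * (⟨c, hc⟩ : ↥C)⁻¹, f.normal_ker.conj_mem a ha _, rfl⟩
  · intro a n haC hn ha
    refine ⟨⟨a, haC⟩, ?_, rfl⟩
    show (⟨a, haC⟩ : ↥C) ∈ f.ker
    rw [MonoidHom.mem_ker]
    obtain ⟨e, he⟩ := P'.2 (f ⟨a, haC⟩)
    have hd : orderOf (f ⟨a, haC⟩) ∣ Nat.gcd n (3 ^ e) :=
      Nat.dvd_gcd (orderOf_dvd_of_pow_eq_one (by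
          rw [← map_pow]
          convert map_one f using 2
          exact Subtype.ext ha))
        (orderOf_dvd_of_pow_eq_one he)
    rw [(Nat.Coprime.pow_right e hn).gcd_eq_one, Nat.dvd_one, orderOf_eq_one_iff] at hd
    exact hd

/-- The normaliser of the `3`-element meets `C(z)` in a subgroup of order `9`, `18` or `36`. -/
theorem stab_card (P : Sylow 3 G) {z : G} (hz : z ∈ (P : Subgroup G)) (hz1 : z ≠ 1) :
    let k := Nat.card ↥(normalizer ((P : Subgroup G) : Set G) ⊓ centralizer ({z} : Set G))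
    k = 9 ∨ (Nat.card ↥(normalizer ((P : Subgroup G) : Set G)) = 72 ∧ (k = 18 ∨ k = 36)) := by
  intro k
  have hlt : k ≠ _ := h.stab_lt P hz hz1
  have h9 : 9 ∣ k :=
    h.card_three P ▸ card_dvd_of_le (le_inf le_normalizer (h.le_cent_three P hz))
  have hN : k ∣ Nat.card ↥(normalizer ((P : Subgroup G) : Set G)) := card_dvd_of_le inf_le_left
  rcases h.card_norm P with e | e <;> rw [e] at hN hlt ⊢
  · have hk : k ∈ Nat.divisors 72 := Nat.mem_divisors.mpr ⟨hN, by norm_num⟩
    rw [show Nat.divisors 72 = {1, 2, 3, 4, 6, 8, 9, 12, 18, 24, 36, 72} by decide +kernel] at hk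
    simp only [Finset.mem_insert, Finset.mem_singleton] at hk
    omega
  · have hk : k ∈ Nat.divisors 18 := Nat.mem_divisors.mpr ⟨hN, by norm_num⟩
    rw [show Nat.divisors 18 = {1, 2, 3, 6, 9, 18} by decide +kernel] at hk
    simp only [Finset.mem_insert, Finset.mem_singleton] at hk
    omega

/-- The extended centraliser of a real element of order `3` has twice the order. -/
theorem card_norm_zpowers {z : G} (hz : orderOf z = 3) {n : G} (hn : n * z * n⁻¹ = z⁻¹) :
    Nat.card ↥(normalizer ((zpowers z : Subgroup G) : Set G)) =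
      2 * Nat.card ↥(centralizer ({z} : Set G)) := by
  set M := normalizer ((zpowers z : Subgroup G) : Set G) with hM
  set C := centralizer ({z} : Set G) with hC
  have hle : C ≤ M := by rw [hC, ← cent_zpowers]; exact centralizer_le_normalizer _
  have hr : C.relIndex M ∣ 2 := by
    rw [hC, ← cent_zpowers z]
    exact SmallGroups.relIndex_centralizer_dvd_of_prime (p := 3) _ (by rw [Nat.card_zpowers, hz])
  have hprod : Nat.card C * C.relIndex M = Nat.card M := by
    have h1 := (C.subgroupOf M).card_mul_index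
    rwa [Nat.card_congr (subgroupOfEquivOfLe hle).toEquiv] at h1
  have hnM : n ∈ M := by
    rw [hM, mem_normalizer_iff_map_conj_eq, MonoidHom.map_zpowers]
    change zpowers (n * z * n⁻¹) = zpowers z
    rw [hn, zpowers_inv]
  have h1 : C.relIndex M ≠ 1 := fun h1 => by
    have hc : Commute n z := mem_cent.mp (relIndex_eq_one.mp h1 hnM)
    have h2 : z = z⁻¹ := by rw [← hn, hc.eq, mul_inv_cancel_right]
    have h3 : z ^ 2 = 1 := by rw [pow_two, ← eq_inv_iff_mul_eq_one]; exact h2
    have := orderOf_dvd_of_pow_eq_one h3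
    rw [hz] at this
    norm_num at this
  rcases (Nat.dvd_prime Nat.prime_two).mp hr with e | e
  · exact absurd e h1
  · rw [← hprod, e, mul_comm]

theorem norm_zpowers_le {z : G} (hz : orderOf z = 3) :
    Nat.card ↥(normalizer ((zpowers z : Subgroup G) : Set G)) ≤ 560 := by
  refine h.normalizer_le ?_ ?_
  · rw [ne_eq, zpowers_eq_bot]
    intro e; rw [e, orderOf_one] at hz; omega
  · intro e
    have := Nat.card_zpowers z
    rw [e, card_top, h.card, hz] at this
    omega

/-- A stabiliser of index two makes `z` real. -/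
theorem real_of_half (P : Sylow 3 G) {z : G} (hz : z ∈ (P : Subgroup G))
    (hk : 2 * Nat.card ↥(normalizer ((P : Subgroup G) : Set G) ⊓ centralizer ({z} : Set G)) =
      Nat.card ↥(normalizer ((P : Subgroup G) : Set G))) :
    ∃ n ∈ normalizer ((P : Subgroup G) : Set G), n * z * n⁻¹ = z⁻¹ :=
  inverse_of_index_two h.ne P (h.comm_three P) hz hk

/-- With a stabiliser of order `9` the element is real. -/
theorem real_of_nine (P : Sylow 3 G) {z : G} (hz : z ∈ (P : Subgroup G)) (hz1 : z ≠ 1)
    (hk : Nat.card ↥(normalizer ((P : Subgroup G) : Set G) ⊓ centralizer ({z} : Set G)) = 9) :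
    ∃ n ∈ normalizer ((P : Subgroup G) : Set G), n * z * n⁻¹ = z⁻¹ := by
  classical
  rcases h.card_norm P with e | e
  · -- the orbit of `z` is all of `P` less the identity
    have h1 := stab_mul_range (normalizer ((P : Subgroup G) : Set G)) z
    rw [hk, e] at h1
    set O := Set.range fun n : normalizer ((P : Subgroup G) : Set G) =>
      (n : G) * z * (n : G)⁻¹ with hO
    have hO8 : O.ncard = 8 := by rw [← Nat.card_coe_set_eq]; omega
    have hsub : O ⊆ ((P : Subgroup G) : Set G) \ {1} := by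
      rintro _ ⟨n, rfl⟩
      refine ⟨(mem_normalizer_iff.mp n.2 z).mp hz, fun he => hz1 (conj_eq_one_iff.mp he)⟩
    have hc : (((P : Subgroup G) : Set G) \ {1}).ncard = 8 := by
      rw [Set.ncard_sdiff_singleton_of_mem (one_mem (P : Subgroup G)), ← Nat.card_coe_set_eq,
        SetLike.coe_sort_coe, h.card_three P]
    have heq := Set.eq_of_subset_of_ncard_le hsub (by rw [hc, hO8]) (Set.toFinite _)
    have hmem : z⁻¹ ∈ O := by
      rw [heq]
      exact ⟨inv_mem hz, fun he => hz1 (inv_eq_one.mp he)⟩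
    obtain ⟨n, hn⟩ := hmem
    exact ⟨n, n.2, hn⟩
  · exact h.real_of_half P hz (by rw [hk, e])

/-- The centraliser of an element of order `3` has no element of order `7`. -/
theorem seven_cent {z : G} (hz : orderOf z = 3) :
    ¬ 7 ∣ Nat.card ↥(centralizer ({z} : Set G)) := by
  intro hd
  haveI : Fact (Nat.Prime 7) := ⟨by norm_num⟩
  set C := centralizer ({z} : Set G) with hC
  have hz1 : z ≠ 1 := fun e => by rw [e, orderOf_one] at hz; omega
  obtain ⟨P, hzP⟩ := exists_sylow_mem hz
  have hPC : (P : Subgroup G) ≤ C := h.le_cent_three P hzP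
  obtain ⟨m, hm3, hkm⟩ := inner_count P C hPC
  obtain ⟨x, hxC, hx7⟩ := exists_mem_orderOf C 7 hd
  obtain ⟨k, n, hk42, hk7, hn, hkn, hdiv⟩ := h.count_seven hx7 hxC
  have hk3 : 3 ∣ k :=
    hz ▸ hdiv z (mem_cent.mpr (Commute.refl z)) (mem_cent.mp hxC).symm
  have hk21 : k = 21 ∨ k = 42 := by
    obtain ⟨i, hi⟩ := Nat.Coprime.mul_dvd_of_dvd_of_dvd (m := 3) (n := 7) (by norm_num) hk3 hk7
    have := Nat.le_of_dvd (by norm_num) hk42
    have hi0 : i ≠ 0 := fun e => by rw [e] at hi; subst hi; norm_num at hk42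
    omega
  have h9 : 9 ∣ Nat.card C := h.card_three P ▸ card_dvd_of_le hPC
  have h560 := h.cent_le hz1
  rw [← hC] at h560
  have hdC : Nat.card C ∣ 5040 := h.card ▸ card_subgroup_dvd_card C
  have hC315 : Nat.card C = 315 := by
    rcases hk21 with e | e <;> rw [e] at hkn
    · have hn27 : n ≤ 26 := by omega
      have : n = 1 ∨ n = 8 ∨ n = 15 ∨ n = 22 := by omega
      rcases this with rfl | rfl | rfl | rfl <;> omega
    · have hn14 : n ≤ 13 := by omega
      have : n = 1 ∨ n = 8 := by omega
      rcases this with rfl | rfl <;> omega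
  rw [hC315] at hkm
  rcases h.stab_card P hzP hz1 with e | ⟨-, e | e⟩ <;> rw [← hC] at e <;> rw [e] at hkm <;> omega

/-- An element of order `5` commuting with one of order `3` only occurs in one configuration. -/
theorem five_cent (P : Sylow 3 G) {z : G} (hz : orderOf z = 3) (hzP : z ∈ (P : Subgroup G))
    (hd : 5 ∣ Nat.card ↥(centralizer ({z} : Set G))) :
    Nat.card ↥(normalizer ((P : Subgroup G) : Set G)) = 72 ∧
    Nat.card ↥(centralizer ({z} : Set G)) = 180 ∧
    Nat.card ↥(normalizer ((P : Subgroup G) : Set G) ⊓ centralizer ({z} : Set G)) = 18 ∧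
    ∃ s ∈ normalizer ((P : Subgroup G) : Set G) ⊓ centralizer ({z} : Set G),
      s ∉ centralizer ((P : Subgroup G) : Set G) := by
  haveI : Fact (Nat.Prime 5) := ⟨by norm_num⟩
  set C := centralizer ({z} : Set G) with hC
  set N := normalizer ((P : Subgroup G) : Set G) with hN
  have hz1 : z ≠ 1 := fun e => by rw [e, orderOf_one] at hz; omega
  have hPC : (P : Subgroup G) ≤ C := h.le_cent_three P hzP
  obtain ⟨n, hn3, hkn⟩ := inner_count P C hPC
  rw [← hN] at hkn
  have h7 := h.seven_cent hz
  rw [← hC] at h7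
  have h560 := h.cent_le hz1
  rw [← hC] at h560
  have hdC : Nat.card C ∣ 5040 := h.card ▸ card_subgroup_dvd_card C
  have h720 : Nat.card C ∣ 720 :=
    Nat.Coprime.dvd_of_dvd_mul_right (n := 7)
      ((Nat.Prime.coprime_iff_not_dvd (by norm_num)).mpr h7).symm (by simpa using hdC)
  -- with a central Sylow normaliser the subgroup of order `5` is normal in `C`
  have hcase : N ⊓ C ≤ centralizer ((P : Subgroup G) : Set G) →
      n = 10 ∨ n = 40 ∨ n = 20 → False := by
    intro hcen hn
    obtain ⟨K, hKC, hKc, hKn, hKmem⟩ := h.exists_complement P hPC hcen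
    obtain ⟨y, hyC, hy5⟩ := exists_mem_orderOf C 5 hd
    have hyK := hKmem y 5 hyC (by norm_num) (hy5 ▸ pow_orderOf_eq_one y)
    have hKdvd : Nat.card K ∣ 80 := by
      have : 9 * Nat.card K ∣ 9 * 80 := hKc ▸ h720
      exact Nat.dvd_of_mul_dvd_mul_left (by norm_num) this
    obtain ⟨m, hm⟩ : 5 ∣ Nat.card K := hy5 ▸ orderOf_dvd_natCard _ hyK
    have hm16 : m ∣ 16 := by
      rw [hm] at hKdvd
      exact Nat.dvd_of_mul_dvd_mul_left (by norm_num) (show 5 * m ∣ 5 * 16 from hKdvd)
    have hm8 : m ≤ 12 := by omega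
    have hS := SmallGroups.card_sylow_mem (G := ↥K) (p := 5) (a := 1) (m := m)
      (by rw [hm]; norm_num) (by
        intro h5; have := h5.trans hm16; norm_num at this)
    have hS1 : Nat.card (Sylow 5 ↥K) = 1 := by
      have hm' : m ∈ Nat.divisors 16 := Nat.mem_divisors.mpr ⟨hm16, by norm_num⟩
      rw [show Nat.divisors 16 = {1, 2, 4, 8, 16} by decide +kernel] at hm'
      simp only [Finset.mem_insert, Finset.mem_singleton] at hm'
      obtain ⟨hS1, hS2⟩ := hS
      have hle := Nat.le_of_dvd (by omega) hS1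
      rcases hm' with rfl | rfl | rfl | rfl | rfl <;>
        rcases (show Nat.card (Sylow 5 ↥K) = 1 ∨ Nat.card (Sylow 5 ↥K) = 6 ∨ Nat.card (Sylow 5 ↥K) = 11 ∨
          Nat.card (Sylow 5 ↥K) = 16 by omega) with e | e | e | e <;>
        rw [e] at hS1 hle <;> first | exact e | (norm_num at hS1; done) | omega
    haveI : Subsingleton (Sylow 5 ↥K) := (Nat.card_eq_one_iff_unique.mp hS1).1
    have hCN : C ≤ normalizer ((zpowers y : Subgroup G) : Set G) := by
      intro c hc
      rw [mem_normalizer_iff_map_conj_eq, MonoidHom.map_zpowers]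
      refine eq_of_le_of_card_ge (zpowers_le.mpr ?_) ?_
      · show c * y * c⁻¹ ∈ zpowers y
        have hmem := hKn c hc y hyK
        obtain ⟨S, hS'⟩ := exists_sylow_mem (G := ↥K) (p := 5) (z := ⟨y, hyK⟩)
          (by rw [orderOf_mk]; exact hy5)
        obtain ⟨S', hS''⟩ := exists_sylow_mem (G := ↥K) (p := 5) (z := ⟨_, hmem⟩)
          (by rw [orderOf_mk, ← hy5]; exact (MulAut.conj c).orderOf_eq y)
        rw [Subsingleton.elim S' S] at hS''
        have hSc : Nat.card ↥(S : Subgroup ↥K) = 5 := by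
          rw [SmallGroups.card_sylow_eq (a := 1) (m := m) (by rw [hm]; norm_num) (by
            intro h5; have := h5.trans hm16; norm_num at this) S, pow_one]
        have hSz : zpowers (⟨y, hyK⟩ : ↥K) = (S : Subgroup ↥K) :=
          eq_of_le_of_card_ge (zpowers_le.mpr hS') (by
            rw [hSc, Nat.card_zpowers, orderOf_mk, hy5])
        rw [← hSz, mem_zpowers_iff] at hS''
        obtain ⟨j, hj⟩ := hS''
        exact mem_zpowers_iff.mpr ⟨j, by simpa using congrArg Subtype.val hj⟩
      · rw [Nat.card_zpowers, Nat.card_zpowers]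
        exact ((MulAut.conj c).orderOf_eq y).ge
    have h45 : 45 ∣ Nat.card C :=
      Nat.Coprime.mul_dvd_of_dvd_of_dvd (m := 9) (n := 5) (by norm_num)
        (h.card_three P ▸ card_dvd_of_le hPC) hd
    obtain ⟨hN90, hC45⟩ := h.five_nine hy5 hCN h45
    have hdvd90 := card_dvd_of_le hCN
    rw [hN90] at hdvd90
    have hle90 := Nat.le_of_dvd (by norm_num) hdvd90
    have h9k : 9 ∣ Nat.card ↥(N ⊓ C) :=
      h.card_three P ▸ card_dvd_of_le (le_inf le_normalizer hPC)
    have hk9 := Nat.le_of_dvd Nat.card_pos h9k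
    have hn10 : n = 10 ∧ Nat.card ↥(N ⊓ C) = 9 := by
      rcases hn with rfl | rfl | rfl <;> omega
    have hC90 : Nat.card C = 90 := by rw [← hkn, hn10.1, hn10.2]
    -- every conjugate of `P` in `C` lies in `C(y)`
    have hCy : centralizer ({y} : Set G) ≤ normalizer ((zpowers y : Subgroup G) : Set G) := by
      rw [← cent_zpowers]; exact centralizer_le_normalizer _
    have hQy : ∀ Q : Sylow 3 G, (Q : Subgroup G) ≤ C →
        (Q : Subgroup G) ≤ centralizer ({y} : Set G) := fun Q hQ a ha =>
      card_cent_eq_of_index_two hCy (by rw [hN90, hC45]) (hCN (hQ ha)) (by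
        obtain ⟨e, he⟩ := Q.2 ⟨a, ha⟩
        obtain ⟨i, -, hi⟩ := (Nat.dvd_prime_pow Nat.prime_three).mp
          (orderOf_dvd_of_pow_eq_one (congrArg Subtype.val he : a ^ 3 ^ e = 1))
        rw [hi]
        exact Odd.pow (by decide))
    obtain ⟨n', hn', hkn'⟩ := inner_count P _ (hQy P hPC)
    rw [← hN, hC45] at hkn'
    have h9k' : 9 ∣ Nat.card ↥(N ⊓ centralizer ({y} : Set G)) :=
      h.card_three P ▸ card_dvd_of_le (le_inf le_normalizer (hQy P hPC))
    obtain ⟨i, hi⟩ := h9k'
    rw [hi, mul_assoc] at hkn'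
    have hi5 : i * n' = 5 := by omega
    have hn'5 : n' ∣ 5 := ⟨i, by rw [mul_comm]; exact hi5.symm⟩
    have hn'1 : n' = 1 := by
      rcases (Nat.dvd_prime (by norm_num)).mp hn'5 with rfl | rfl
      · rfl
      · omega
    have hyN : centralizer ({y} : Set G) ≤ N := by
      refine (eq_of_le_of_card_ge (inf_le_right : N ⊓ _ ≤ centralizer ({y} : Set G)) ?_) ▸
        inf_le_left
      rw [hC45, hi]
      subst hn'1
      omega
    have hCle : C ≤ N := by
      intro c hc
      have hQ : ((c • P : Sylow 3 G) : Subgroup G) ≤ C := by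
        rintro _ ⟨a, ha, rfl⟩
        exact mul_mem (mul_mem hc (hPC ha)) (inv_mem hc)
      have h2 : ((c • P : Sylow 3 G) : Subgroup G) ⊓ N =
          ((c • P : Sylow 3 G) : Subgroup G) ⊓ (P : Subgroup G) :=
        (c • P).2.inf_normalizer_sylow P
      rw [inf_eq_left.mpr ((hQy _ hQ).trans hyN)] at h2
      have h3 : c • P = P := Sylow.ext (eq_of_le_of_card_ge (inf_eq_left.mp h2.symm)
        (by rw [h.card_three P, h.card_three (c • P)]))
      exact Sylow.smul_eq_iff_mem_normalizer.mp h3
    have := card_dvd_of_le (le_inf hCle le_rfl : C ≤ N ⊓ C)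
    rw [hC90, hn10.2] at this
    norm_num at this
  have h45 : 45 ∣ Nat.card C :=
    Nat.Coprime.mul_dvd_of_dvd_of_dvd (m := 9) (n := 5) (by norm_num)
      (h.card_three P ▸ card_dvd_of_le hPC) hd
  rcases h.stab_card P hzP hz1 with e | ⟨e72, e | e⟩ <;> rw [← hN, ← hC] at e
  · exfalso
    refine hcase ?_ ?_
    · have hPk : (P : Subgroup G) = N ⊓ C :=
        eq_of_le_of_card_ge (le_inf le_normalizer hPC) (by rw [e, h.card_three P])
      haveI := h.comm_three P
      rw [← hPk]; exact le_centralizer _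
    · rw [e] at hkn
      have hn80 : n ∣ 80 := by
        rw [← hkn] at h720
        exact Nat.dvd_of_mul_dvd_mul_left (by norm_num) (show 9 * n ∣ 9 * 80 from h720)
      have hm : n ∈ Nat.divisors 80 := Nat.mem_divisors.mpr ⟨hn80, by norm_num⟩
      rw [show Nat.divisors 80 = {1, 2, 4, 5, 8, 10, 16, 20, 40, 80} by decide +kernel] at hm
      simp only [Finset.mem_insert, Finset.mem_singleton] at hm
      omega
  · rw [e] at hkn
    have hn40 : n ∣ 40 := by
      rw [← hkn] at h720
      exact Nat.dvd_of_mul_dvd_mul_left (by norm_num) (show 18 * n ∣ 18 * 40 from h720)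
    have hm : n ∈ Nat.divisors 40 := Nat.mem_divisors.mpr ⟨hn40, by norm_num⟩
    rw [show Nat.divisors 40 = {1, 2, 4, 5, 8, 10, 20, 40} by decide +kernel] at hm
    simp only [Finset.mem_insert, Finset.mem_singleton] at hm
    have hn10 : n = 10 := by omega
    refine ⟨e72, by omega, e, ?_⟩
    by_contra hc
    push_neg at hc
    exact hcase hc (Or.inl hn10)
  · exfalso
    rw [e] at hkn
    have hn20 : n ∣ 20 := by
      rw [← hkn] at h720
      exact Nat.dvd_of_mul_dvd_mul_left (by norm_num) (show 36 * n ∣ 36 * 20 from h720)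
    have hm : n ∈ Nat.divisors 20 := Nat.mem_divisors.mpr ⟨hn20, by norm_num⟩
    rw [show Nat.divisors 20 = {1, 2, 4, 5, 10, 20} by decide +kernel] at hm
    simp only [Finset.mem_insert, Finset.mem_singleton] at hm
    obtain ⟨g, -, hg⟩ := h.real_of_half P hzP (by rw [← hN, ← hC, e, e72])
    have h1 := h.norm_zpowers_le hz
    rw [h.card_norm_zpowers hz hg, ← hC] at h1
    omega

end Hyp

end Cfsg.Agent.BC87.N5040
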